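import Groth.Agent.ASBun.K790.KS2
import Mathlib.RingTheory.IsTensorProduct
import Mathlib.LinearAlgebra.Dual.Lemmas
import Mathlib.CategoryTheory.Preadditive.AdditiveFunctor

/-!
# Scalar extension functors: Noether-Deuring

`ScalExt k K Φ P`: `Φ : C ⥤ D` with `C` linear over a field `k`, `D` linear over `K`, such that for objects in `P`
the Homs in `D` are the scalar extensions of the Homs in `C`.

* `nonempty_iso_of_id_mem`: `a`, `b` with local endomorphism rings, the identity of `Φ a` is a combination of maps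
  which factor through `Φ b`: then `a ≅ b`;
* `cls_eq`, `nonempty_iso`: Noether-Deuring.
-/

set_option autoImplicit false
set_option linter.unusedSectionVars false
universe v w v' w'
open CategoryTheory CategoryTheory.Limits
open scoped ZeroObject

namespace K790.Ext

open K790.KS

section Algebra

variable {k K V W : Type*} [Field k] [Field K] [Algebra k K] [AddCommGroup V] [Module k V]
  [AddCommGroup W] [Module k W] [Module K W] [IsScalarTower k K W]

theorem mem_of_map_mem_span (f : V →ₗ[k] W) (hf : IsBaseChange K f) (S : Submodule k V) (v : V)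
    (hv : f v ∈ Submodule.span K (f '' (S : Set V))) : v ∈ S := by
  by_contra hn
  obtain ⟨g, hg, hgS⟩ := Submodule.exists_dual_map_eq_bot_of_notMem hn inferInstance
  let L : W →ₗ[K] K := hf.lift ((Algebra.linearMap k K).comp g)
  have hL : ∀ x, L (f x) = algebraMap k K (g x) := fun x => hf.lift_eq _ x
  have h0 : ∀ w ∈ Submodule.span K (f '' (S : Set V)), L w = 0 := by
    intro w hw
    induction hw using Submodule.span_induction with
    | mem x hx =>
      obtain ⟨y, hy, rfl⟩ := hx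
      rw [hL]
      have : g y ∈ S.map g := ⟨y, hy, rfl⟩
      rw [hgS, Submodule.mem_bot] at this
      rw [this, map_zero]
    | zero => exact map_zero L
    | add x y _ _ hx hy => rw [map_add, hx, hy, add_zero]
    | smul a x _ hx => rw [map_smul, hx, smul_zero]
  have h1 := h0 _ hv
  rw [hL] at h1
  exact hg (by simpa using h1)

end Algebra

variable (k K : Type*) [Field k] [Field K] [Algebra k K]
  {C : Type w} [Category.{v} C] [Preadditive C] [HasZeroObject C] [HasBinaryBiproducts C] [Linear k C]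
  {D : Type w'} [Category.{v'} D] [Preadditive D] [HasZeroObject D] [HasBinaryBiproducts D] [Linear K D]

/-- Scalar extension functor on the objects satisfying `P`. -/
structure ScalExt (Φ : C ⥤ D) (P : C → Prop) : Prop where
  span : ∀ {X Y : C}, P X → P Y → ∀ g : Φ.obj X ⟶ Φ.obj Y,
    g ∈ Submodule.span K (Set.range (fun f : X ⟶ Y => Φ.map f))
  mem : ∀ {X Y : C}, P X → P Y → ∀ (S : Submodule k (X ⟶ Y)) (f : X ⟶ Y),
    Φ.map f ∈ Submodule.span K ((fun f : X ⟶ Y => Φ.map f) '' (S : Set (X ⟶ Y))) → f ∈ S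

variable {k K} {Φ : C ⥤ D} [Φ.Additive] {P : C → Prop} (H : ScalExt k K Φ P)

/-- the non-units in a local endomorphism ring, as a subspace -/
def nonunits {a : C} (ha : LocalEnd a) : Submodule k (a ⟶ a) where
  carrier := {f | ¬ IsIso f}
  zero_mem' := by
    intro h
    apply not_isZero_of_localEnd ha
    rw [IsZero.iff_id_eq_zero]
    have : IsIso (0 : a ⟶ a) := h
    rw [← IsIso.hom_inv_id (0 : a ⟶ a), zero_comp]
  add_mem' := by
    intro f g hf hg h
    have hu : IsUnit (show End a from f + g) := (isUnit_end_iff _).2 h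
    obtain ⟨u, hu⟩ := hu
    have h2 : (show End a from f) * (↑u⁻¹ : End a) + (show End a from g) * (↑u⁻¹ : End a) = 1 := by
      rw [← add_mul]
      have : (show End a from f) + (show End a from g) = ↑u := hu.symm
      rw [this, Units.mul_inv]
    rcases IsLocalRing.isUnit_or_isUnit_of_add_one h2 with h3 | h3
    · exact hf ((isUnit_end_iff _).1 ((Units.isUnit_mul_units _ _).1 h3))
    · exact hg ((isUnit_end_iff _).1 ((Units.isUnit_mul_units _ _).1 h3))
  smul_mem' := by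
    intro c f hf h
    by_cases hc : c = 0
    · apply not_isZero_of_localEnd ha
      rw [IsZero.iff_id_eq_zero]
      subst hc
      have h' : IsIso (0 : a ⟶ a) := by
        have : IsIso ((0 : k) • f) := h
        rwa [zero_smul] at this
      rw [← IsIso.hom_inv_id (0 : a ⟶ a), zero_comp]
    · apply hf
      have h' : IsIso (c • f) := h
      refine ⟨c • inv (c • f), ?_, ?_⟩
      · rw [Linear.comp_smul, ← Linear.smul_comp, IsIso.hom_inv_id]
      · rw [Linear.smul_comp, ← Linear.comp_smul, IsIso.inv_hom_id]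

include H in
/-- If the identity of `Φ a` is in the span of `Φ` of a set of endomorphisms, one of them is an isomorphism. -/
theorem exists_isIso_of_id_mem {a : C} (ha : LocalEnd a) (hP : P a) (S : Set (a ⟶ a))
    (h : 𝟙 (Φ.obj a) ∈ Submodule.span K ((fun f : a ⟶ a => Φ.map f) '' S)) : ∃ s ∈ S, IsIso s := by
  by_contra hn
  push Not at hn
  have h1 : 𝟙 a ∈ nonunits (k := k) ha := by
    apply H.mem hP hP
    rw [Φ.map_id]
    refine Submodule.span_mono ?_ h
    exact Set.image_mono (fun s hs => hn s hs)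
  exact h1 inferInstance

include H in
theorem comp_mem_span {a b : C} (ha : P a) (hb : P b) (α : Φ.obj a ⟶ Φ.obj b) (β : Φ.obj b ⟶ Φ.obj a) :
    α ≫ β ∈ Submodule.span K ((fun f : a ⟶ a => Φ.map f) '' {f | ∃ (x : a ⟶ b) (y : b ⟶ a), f = x ≫ y}) := by
  have h1 := H.span ha hb α
  have h2 := H.span hb ha β
  induction h1 using Submodule.span_induction with
  | mem x hx =>
    obtain ⟨f, rfl⟩ := hx
    induction h2 using Submodule.span_induction with
    | mem y hy =>
      obtain ⟨g, rfl⟩ := hy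
      refine Submodule.subset_span ⟨f ≫ g, ⟨f, g, rfl⟩, ?_⟩
      exact Φ.map_comp f g
    | zero => rw [comp_zero]; exact zero_mem _
    | add y y' _ _ hy hy' => rw [Preadditive.comp_add]; exact add_mem hy hy'
    | smul c y _ hy => rw [Linear.comp_smul]; exact Submodule.smul_mem _ _ hy
  | zero => rw [zero_comp]; exact zero_mem _
  | add y y' _ _ hy hy' => rw [Preadditive.add_comp]; exact add_mem hy hy'
  | smul c y _ hy => rw [Linear.smul_comp]; exact Submodule.smul_mem _ _ hy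

include H in
/-- The identity of `Φ a` is a combination of maps factoring through `Φ b`. -/
theorem nonempty_iso_of_id_mem {a b : C} (ha : LocalEnd a) (hb : LocalEnd b) (hPa : P a) (hPb : P b)
    (h : 𝟙 (Φ.obj a) ∈ Submodule.span K {f : Φ.obj a ⟶ Φ.obj a | ∃ (α : Φ.obj a ⟶ Φ.obj b)
      (β : Φ.obj b ⟶ Φ.obj a), f = α ≫ β}) : Nonempty (a ≅ b) := by
  have h1 : 𝟙 (Φ.obj a) ∈ Submodule.span K ((fun f : a ⟶ a => Φ.map f) ''
      {f | ∃ (x : a ⟶ b) (y : b ⟶ a), f = x ≫ y}) := by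
    refine (Submodule.span_le.2 ?_) h
    rintro f ⟨α, β, rfl⟩
    exact comp_mem_span H hPa hPb α β
  obtain ⟨f, ⟨x, y, rfl⟩, hf⟩ := exists_isIso_of_id_mem H ha hPa _ h1
  have := isIso_of_comp_isIso ha hb x y hf
  exact ⟨asIso x⟩

/-- A map through `Φ (sumL l)` is a sum of maps through the `Φ b`, `b ∈ l`. -/
theorem comp_mem_span_list (l : List C) {T : D} (i : T ⟶ Φ.obj (sumL l)) (p : Φ.obj (sumL l) ⟶ T) :
    i ≫ p ∈ AddSubgroup.closure {f : T ⟶ T | ∃ b ∈ l, ∃ (α : T ⟶ Φ.obj b) (β : Φ.obj b ⟶ T), f = α ≫ β} := by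
  induction l with
  | nil =>
    have h0 : IsZero (Φ.obj (sumL ([] : List C))) := by
      rw [IsZero.iff_id_eq_zero, ← Φ.map_id]
      have : 𝟙 (sumL ([] : List C)) = 0 := (isZero_zero C).eq_of_src _ _
      rw [this, Φ.map_zero]
    rw [h0.eq_of_tgt i 0, zero_comp]
    exact zero_mem _
  | cons b l ih =>
    change T ⟶ Φ.obj (b ⊞ sumL l) at i
    change Φ.obj (b ⊞ sumL l) ⟶ T at p
    have h1 : i ≫ p = (i ≫ Φ.map biprod.fst) ≫ (Φ.map biprod.inl ≫ p) +
        (i ≫ Φ.map biprod.snd) ≫ (Φ.map biprod.inr ≫ p) := by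
      calc i ≫ p = i ≫ Φ.map (biprod.fst ≫ biprod.inl + biprod.snd ≫ biprod.inr) ≫ p := by
            rw [biprod.total, Φ.map_id, Category.id_comp]
        _ = _ := by
            rw [Φ.map_add, Φ.map_comp, Φ.map_comp, Preadditive.add_comp, Preadditive.comp_add]
            simp only [Category.assoc]
    have h2 : (i ≫ p : T ⟶ T) ∈ AddSubgroup.closure
        {f : T ⟶ T | ∃ b' ∈ b :: l, ∃ (α : T ⟶ Φ.obj b') (β : Φ.obj b' ⟶ T), f = α ≫ β} := ?_
    · exact h2
    rw [h1]
    refine add_mem (AddSubgroup.subset_closure ⟨b, by simp, _, _, rfl⟩) ?_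
    refine (AddSubgroup.closure_mono ?_) (ih _ _)
    rintro f ⟨b', hb', α, β, rfl⟩
    exact ⟨b', by simp [hb'], α, β, rfl⟩

include H in
/-- An object with local endomorphism ring whose image is a summand of `Φ (sumL l)` is a member of `l`. -/
theorem exists_mem_of_summand {a : C} (ha : LocalEnd a) (hPa : P a) {l : List C}
    (hl : ∀ b ∈ l, LocalEnd b ∧ P b) (i : Φ.obj a ⟶ Φ.obj (sumL l)) (p : Φ.obj (sumL l) ⟶ Φ.obj a)
    (h : i ≫ p = 𝟙 _) : ∃ b ∈ l, Nonempty (a ≅ b) := by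
  have h1 := comp_mem_span_list (Φ := Φ) l i p
  rw [h] at h1
  have h2 : 𝟙 (Φ.obj a) ∈ Submodule.span K ((fun f : a ⟶ a => Φ.map f) ''
      {f | ∃ b ∈ l, ∃ (x : a ⟶ b) (y : b ⟶ a), f = x ≫ y}) := by
    generalize 𝟙 (Φ.obj a) = t at h1
    induction h1 using AddSubgroup.closure_induction with
    | mem f hf =>
      obtain ⟨b, hb, α, β, rfl⟩ := hf
      refine (Submodule.span_mono (Set.image_mono ?_)) (comp_mem_span H hPa (hl b hb).2 α β)
      rintro f ⟨x, y, rfl⟩
      exact ⟨b, hb, x, y, rfl⟩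
    | zero => exact zero_mem _
    | add x y _ _ hx hy => exact add_mem hx hy
    | neg x _ hx => exact neg_mem hx
  obtain ⟨f, ⟨b, hb, x, y, rfl⟩, hf⟩ := exists_isIso_of_id_mem H ha hPa _ h2
  have := isIso_of_comp_isIso ha (hl b hb).1 x y hf
  exact ⟨b, hb, ⟨asIso x⟩⟩

variable (hD : ∀ l : List C, (∀ a ∈ l, LocalEnd a ∧ P a) →
  ∃ lD : List D, (∀ a ∈ lD, LocalEnd a) ∧ Nonempty (Φ.obj (sumL l) ≅ sumL lD))

include H hD in
/-- Noether-Deuring for lists. -/
theorem cls_eq {l l' : List C} (hl : ∀ a ∈ l, LocalEnd a ∧ P a) (hl' : ∀ a ∈ l', LocalEnd a ∧ P a)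
    (e : Φ.obj (sumL l) ≅ Φ.obj (sumL l')) : cls l = cls l' := by
  induction l generalizing l' with
  | nil =>
    cases l' with
    | nil => rfl
    | cons b l' =>
      exfalso
      have h0 : IsZero (Φ.obj (sumL ([] : List C))) := by
        rw [IsZero.iff_id_eq_zero, ← Φ.map_id]
        have : 𝟙 (sumL ([] : List C)) = 0 := (isZero_zero C).eq_of_src _ _
        rw [this, Φ.map_zero]
      change Φ.obj (sumL ([] : List C)) ≅ Φ.obj (b ⊞ sumL l') at e
      have h1 : 𝟙 (Φ.obj b) = 0 := by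
        have h2 : Φ.map (biprod.inl : b ⟶ b ⊞ sumL l') = 0 := (h0.of_iso e.symm).eq_of_tgt _ _
        rw [← Φ.map_id, ← biprod.inl_fst (X := b) (Y := sumL l'), Φ.map_comp, h2, zero_comp]
      obtain ⟨f, hf, -⟩ := exists_isIso_of_id_mem H (hl' b (by simp)).1 (hl' b (by simp)).2 ∅
        (by rw [h1]; exact zero_mem _)
      exact hf
  | cons a l ih =>
    change Φ.obj (a ⊞ sumL l) ≅ Φ.obj (sumL l') at e
    obtain ⟨b, hb, ⟨f⟩⟩ := exists_mem_of_summand H (hl a (by simp)).1 (hl a (by simp)).2 hl'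
      (Φ.map (biprod.inl : a ⟶ a ⊞ sumL l) ≫ e.hom) (e.inv ≫ Φ.map (biprod.fst : a ⊞ sumL l ⟶ a)) (by
        rw [Category.assoc, Iso.hom_inv_id_assoc, ← Φ.map_comp, biprod.inl_fst, Φ.map_id])
    obtain ⟨l'', hp, ⟨e'⟩⟩ := exists_iso_biprod_of_mem hb
    -- `a ⊞ sumL l'' ≅ sumL l'`
    have e1 : Φ.obj (a ⊞ sumL l) ≅ Φ.obj (a ⊞ sumL l'') :=
      e ≪≫ Φ.mapIso (e' ≪≫ (biprod.mapIso f (Iso.refl _)).symm)
    have mp : ∀ Y : C, Nonempty (Φ.obj (a ⊞ Y) ≅ Φ.obj a ⊞ Φ.obj Y) := fun Y =>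
      nonempty_iso_biprod_of_split (Φ.map biprod.inl) (Φ.map biprod.fst) (Φ.map biprod.inr)
        (Φ.map biprod.snd) (by rw [← Φ.map_comp, biprod.inl_fst, Φ.map_id])
        (by rw [← Φ.map_comp, biprod.inr_snd, Φ.map_id])
        (by rw [← Φ.map_comp, ← Φ.map_comp, ← Φ.map_add, biprod.total, Φ.map_id])
    obtain ⟨m1⟩ := mp (sumL l)
    obtain ⟨m2⟩ := mp (sumL l'')
    have hl1 : ∀ x ∈ l, LocalEnd x ∧ P x := fun x hx => hl x (by simp [hx])
    have hl2 : ∀ x ∈ l'', LocalEnd x ∧ P x := fun x hx => hl' x (hp.symm.subset (by simp [hx]))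
    obtain ⟨d1, hd1, ⟨i1⟩⟩ := hD l hl1
    obtain ⟨d2, hd2, ⟨i2⟩⟩ := hD l'' hl2
    obtain ⟨d3, hd3, ⟨i3⟩⟩ := hD [a] (fun x hx => by
      rw [List.mem_singleton] at hx; subst hx; exact hl x (by simp))
    have i4 : Φ.obj a ≅ Φ.obj (sumL [a]) := Φ.mapIso
      { hom := (biprod.inl : a ⟶ a ⊞ sumL ([] : List C)), inv := biprod.fst
        hom_inv_id := biprod.inl_fst
        inv_hom_id := by
          apply biprod.hom_ext
          · simp
          · exact (isZero_zero C).eq_of_tgt _ _ }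
    obtain ⟨e2⟩ := nonempty_iso_of_biprod_iso hd3 hd1 hd2 (i4 ≪≫ i3) i1 i2 (m1.symm ≪≫ e1 ≪≫ m2)
    have h2 := ih hl1 hl2 e2
    rw [cls_perm hp, cls_cons, cls_cons, h2]
    congr 1
    exact Quotient.sound ⟨f⟩

include H hD in
/-- Noether-Deuring. -/
theorem nonempty_iso {X Y : C} {l l' : List C} (hl : ∀ a ∈ l, LocalEnd a ∧ P a)
    (hl' : ∀ a ∈ l', LocalEnd a ∧ P a) (eX : X ≅ sumL l) (eY : Y ≅ sumL l')
    (e : Φ.obj X ≅ Φ.obj Y) : Nonempty (X ≅ Y) := by
  have h := cls_eq H hD hl hl' (Φ.mapIso eX.symm ≪≫ e ≪≫ Φ.mapIso eY)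
  obtain ⟨e'⟩ := nonempty_iso_of_cls_eq h
  exact ⟨eX ≪≫ e' ≪≫ eY.symm⟩

end K790.Ext
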