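import Groth.Agent.ASBun.K790.KSch
import Groth.Agent.ASBun.K790.Ext
import Groth.Agent.ASBun.K792.HomBC
import Groth.Agent.FormalA.PullbackQC
import Groth.Agent.PerfA.CohSerre
import Groth.Agent.Dcoh.Spread
import Groth.Agent.Ega3B.DevQC
import Groth.Prelude.Def_W4c1astiltbs12AS

/-!
# Coherent modules on a proper scheme over a field and extension of the base field

* `scalExt`: base change to a field extension is a scalar extension functor on coherent modules;
* `nonempty_iso_of_bc`: Noether-Deuring (arbitrary field extension);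
* `nonempty_iso_of_isotypical`: two indecomposable coherent modules of the same type are isomorphic.
-/

set_option autoImplicit false
set_option linter.unusedSectionVars false
universe u
open CategoryTheory CategoryTheory.Limits AlgebraicGeometry
open scoped ZeroObject

namespace K790.BC

open K790.KS K790.KSch K790.Ext Groth.Agent W4c1astiltbs12 W4bk4gw11416

theorem isCoh_of_retract {X : Scheme.{u}} {F A : X.Modules} (hF : Coh.IsCoh F) (i : A ⟶ F) (q : F ⟶ A)
    (h : i ≫ q = 𝟙 A) : Coh.IsCoh A := by
  have w : (𝟙 F - q ≫ i) ≫ q = 0 := by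
    rw [Preadditive.sub_comp, Category.assoc, h, Category.comp_id, Category.id_comp, sub_self]
  have h1 : IsColimit (CokernelCofork.ofπ q w) :=
    CokernelCofork.IsColimit.ofπ _ _ (fun g _ => i ≫ g) (fun g hg => by
      rw [Preadditive.sub_comp, Category.id_comp, Category.assoc, sub_eq_zero] at hg
      exact hg.symm) (fun g hg m hm => by
      rw [← hm, ← Category.assoc, h, Category.id_comp])
  have e : cokernel (𝟙 F - q ≫ i) ≅ A := (cokernelIsCokernel _).coconePointUniqueUpToIso h1
  exact PerfA.CohSerre.isCoh_of_iso e (PerfA.CohSerre.isCoh_cokernel _ hF.1 hF)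

variable (k : Type u) [Field k] {X : Scheme.{u}} (p : X ⟶ Spec (CommRingCat.of k)) [IsProper p]
  (K : Type u) [Field K] [Algebra k K]

include p in
theorem isLocallyNoetherian : IsLocallyNoetherian X := LocallyOfFiniteType.isLocallyNoetherian p

include p in
theorem isCoh_sumL {l : List X.Modules} (hl : ∀ a ∈ l, Coh.IsCoh a) : Coh.IsCoh (sumL l) := by
  have := isLocallyNoetherian k p
  induction l with
  | nil => exact PerfA.CohSerre.isCoh_of_isZero (isZero_zero _)
  | cons a l ih => exact Ega3B.DevQC.isCoh_biprod (hl a (by simp)) (ih fun x hx => hl x (by simp [hx]))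

theorem additive_pull {X Y : Scheme.{u}} (f : X ⟶ Y) : (Scheme.Modules.pullback f).Additive :=
  inferInstance

theorem scalExt :
    letI := over k p
    letI := over K (baseChangeTo p K)
    letI := CurvesC.LinMod.linearModules k X
    letI := CurvesC.LinMod.linearModules K (baseChange p K)
    ScalExt k K (Scheme.Modules.pullback (proj p K)) (fun M : X.Modules => Coh.IsCoh M) := by
  letI := over k p
  letI := over K (baseChangeTo p K)
  letI := CurvesC.LinMod.linearModules k X
  letI := CurvesC.LinMod.linearModules K (baseChange p K)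
  have : CompactSpace X := QuasiCompact.compactSpace_of_compactSpace p
  have sq : IsPullback (proj p K) ((baseChange p K) ↘ Spec (CommRingCat.of K)) (X ↘ Spec (CommRingCat.of k))
    (Spec.map (CommRingCat.ofHom (algebraMap k K))) := IsPullback.of_hasPullback _ _
  constructor
  · intro M N hM hN g
    letI i1 : Module k ((Scheme.Modules.pullback (proj p K)).obj M ⟶ (Scheme.Modules.pullback (proj p K)).obj N) :=
      K792.HomBC.homModA (B := K) _ _
    have i2 := K792.HomBC.isScalarTower_hom (A := k) (B := K) ((Scheme.Modules.pullback (proj p K)).obj M)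
      ((Scheme.Modules.pullback (proj p K)).obj N)
    have h := K792.HomBC.isBaseChange_mapL (B := K) (proj p K) sq M N hM hN.1
    refine h.inductionOn (motive := fun g => g ∈ Submodule.span K _) _ (zero_mem _)
      (fun f => Submodule.subset_span ⟨f, rfl⟩) (fun c g hg => Submodule.smul_mem _ c hg)
      (fun g g' hg hg' => add_mem hg hg')
  · intro M N hM hN S f hf
    letI i1 : Module k ((Scheme.Modules.pullback (proj p K)).obj M ⟶ (Scheme.Modules.pullback (proj p K)).obj N) :=
      K792.HomBC.homModA (B := K) _ _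
    have i2 := K792.HomBC.isScalarTower_hom (A := k) (B := K) ((Scheme.Modules.pullback (proj p K)).obj M)
      ((Scheme.Modules.pullback (proj p K)).obj N)
    have h := K792.HomBC.isBaseChange_mapL (B := K) (proj p K) sq M N hM hN.1
    exact mem_of_map_mem_span (K792.HomBC.mapL (proj p K) sq M N) h S f hf

theorem exists_sumL_bc (l : List X.Modules) (hl : ∀ a ∈ l, LocalEnd a ∧ Coh.IsCoh a) :
    ∃ lD : List (baseChange p K).Modules, (∀ a ∈ lD, LocalEnd a) ∧
      Nonempty ((Scheme.Modules.pullback (proj p K)).obj (sumL l) ≅ sumL lD) :=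
  KSch.exists_sumL K (baseChangeTo p K) _ (FormalA.PullbackQC.isCoh_pullback _ _
    (isCoh_sumL k p fun a ha => (hl a ha).2))

include p in
/-- decomposition of a coherent module, with coherent members -/
theorem exists_sumL (F : X.Modules) (hF : Coh.IsCoh F) :
    ∃ l : List X.Modules, (∀ a ∈ l, LocalEnd a ∧ Coh.IsCoh a) ∧ Nonempty (F ≅ sumL l) := by
  obtain ⟨l, hl, ⟨e⟩⟩ := KSch.exists_sumL k p F hF
  refine ⟨l, fun a ha => ⟨hl a ha, ?_⟩, ⟨e⟩⟩
  obtain ⟨l', -, ⟨e'⟩⟩ := exists_iso_biprod_of_mem ha
  exact isCoh_of_retract hF (biprod.inl ≫ e'.inv ≫ e.inv) (e.hom ≫ e'.hom ≫ biprod.fst) (by simp)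

/-- Noether-Deuring. -/
theorem nonempty_iso_of_bc (F G : X.Modules) (hF : Coh.IsCoh F) (hG : Coh.IsCoh G)
    (e : bcMod p K F ≅ bcMod p K G) : Nonempty (F ≅ G) := by
  letI := over k p
  letI := over K (baseChangeTo p K)
  letI := CurvesC.LinMod.linearModules k X
  letI := CurvesC.LinMod.linearModules K (baseChange p K)
  obtain ⟨l, hl, ⟨e1⟩⟩ := BC.exists_sumL k p F hF
  obtain ⟨l', hl', ⟨e2⟩⟩ := BC.exists_sumL k p G hG
  exact Ext.nonempty_iso (scalExt k p K) (exists_sumL_bc k p K) hl hl' e1 e2 e

/-- Key lemma for isotypical modules: if `E_K` is a summand of a finite sum of copies of `E'_K`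
(in the form: the identity is a sum of maps through `E'_K`) then `E ≅ E'`. -/
theorem nonempty_iso_of_id_mem (E E' : X.Modules) (hE : Coh.IsCoh E) (hE' : Coh.IsCoh E')
    (hEi : Indec E) (hE'i : Indec E')
    (h : 𝟙 (bcMod p K E) ∈ AddSubgroup.closure {f : bcMod p K E ⟶ bcMod p K E |
      ∃ (α : bcMod p K E ⟶ bcMod p K E') (β : bcMod p K E' ⟶ bcMod p K E), f = α ≫ β}) :
    Nonempty (E ≅ E') := by
  letI := over k p
  letI := over K (baseChangeTo p K)
  letI := CurvesC.LinMod.linearModules k X
  letI := CurvesC.LinMod.linearModules K (baseChange p K)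
  refine Ext.nonempty_iso_of_id_mem (scalExt k p K) (KSch.localEnd k p hE hEi) (KSch.localEnd k p hE' hE'i)
    hE hE' ?_
  exact (AddSubgroup.closure_le (K := (Submodule.span K {f : bcMod p K E ⟶ bcMod p K E |
      ∃ (α : bcMod p K E ⟶ bcMod p K E') (β : bcMod p K E' ⟶ bcMod p K E), f = α ≫ β}).toAddSubgroup)).2
    Submodule.subset_span h

/-- In the base change, maps through a power of `W`. -/
theorem id_mem_of_pow {D : Type*} [Category D] [Preadditive D] [HasFiniteCoproducts D] {T W : D} {r : ℕ}
    (e : T ≅ ∐ fun _ : Fin r => W) :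
    𝟙 T ∈ AddSubgroup.closure {f : T ⟶ T | ∃ (α : T ⟶ W) (β : W ⟶ T), f = α ≫ β} := by
  classical
  have h1 : 𝟙 (∐ fun _ : Fin r => W) = ∑ i : Fin r,
      Sigma.desc (fun j => if j = i then 𝟙 W else 0) ≫ Sigma.ι (fun _ : Fin r => W) i := by
    apply Sigma.hom_ext
    intro j
    rw [Preadditive.comp_sum, Finset.sum_eq_single j]
    · simp
    · intro i _ hij
      simp [Ne.symm hij]
    · intro h; exact absurd (Finset.mem_univ j) h
  have h2 : 𝟙 T = ∑ i : Fin r, (e.hom ≫ Sigma.desc (fun j => if j = i then 𝟙 W else 0)) ≫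
      (Sigma.ι (fun _ : Fin r => W) i ≫ e.inv) := by
    calc 𝟙 T = e.hom ≫ 𝟙 _ ≫ e.inv := by simp
      _ = _ := by
        rw [h1, Preadditive.sum_comp, Preadditive.comp_sum]
        simp only [Category.assoc]
  rw [h2]
  exact sum_mem fun i _ => AddSubgroup.subset_closure ⟨_, _, rfl⟩

theorem nonempty_iso_of_isotypical (E E' : X.Modules) (hE : Coh.IsCoh E) (hE' : Coh.IsCoh E')
    (hEi : Indec E) (hE'i : Indec E') (W : (baseChange p K).Modules) (r s : ℕ)
    (e : bcMod p K E ≅ pow W r) (e' : bcMod p K E' ≅ pow W s) : Nonempty (E ≅ E') := by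
  classical
  refine nonempty_iso_of_id_mem k p K E E' hE hE' hEi hE'i ?_
  rcases Nat.eq_zero_or_pos s with hs | hs
  · -- `E'_K = 0`: impossible
    exfalso
    subst hs
    letI := over k p
    letI := over K (baseChangeTo p K)
    letI := CurvesC.LinMod.linearModules k X
    letI := CurvesC.LinMod.linearModules K (baseChange p K)
    have h1 := id_mem_of_pow e'
    have h2 : 𝟙 (bcMod p K E') = 0 := by
      have h3 : 𝟙 (pow W 0) = 0 := Sigma.hom_ext _ _ (fun i => i.elim0)
      calc 𝟙 (bcMod p K E') = e'.hom ≫ 𝟙 _ ≫ e'.inv := by simp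
        _ = 0 := by rw [h3]; simp
    obtain ⟨f, hf, -⟩ := exists_isIso_of_id_mem (scalExt k p K) (KSch.localEnd k p hE' hE'i) hE' ∅
      (by
        change 𝟙 (bcMod p K E') ∈ _
        rw [h2]; exact zero_mem _)
    exact hf
  · have h1 := id_mem_of_pow e
    refine (AddSubgroup.closure_le _).2 ?_ h1
    rintro f ⟨α, β, rfl⟩
    -- `α ≫ β` factors through `W`, a summand of `E'_K`
    let i : W ⟶ bcMod p K E' := Sigma.ι (fun _ : Fin s => W) ⟨0, hs⟩ ≫ e'.inv
    let q : bcMod p K E' ⟶ W := e'.hom ≫ Sigma.desc (fun _ => 𝟙 W)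
    have hiq : i ≫ q = 𝟙 W := by simp [i, q]
    refine AddSubgroup.subset_closure ⟨α ≫ i, q ≫ β, ?_⟩
    rw [Category.assoc, ← Category.assoc i, hiq, Category.id_comp]

end K790.BC
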