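import Mathlib.AlgebraicGeometry.Fiber
import Mathlib.AlgebraicGeometry.Modules.Sheaf
import Mathlib.AlgebraicGeometry.ResidueField
import Mathlib.FieldTheory.IsAlgClosed.Basic
import Mathlib.RingTheory.Artinian.Ring

/-!
# Points of a finite algebra over an algebraically closed field

* `exists_point`: every point of `Spec B` comes from a `K`-algebra map `B → K`, and the residue field is `K`;
* `exists_fiber_iso`: the fibre at that point is the base change along `Spec K ⟶ Spec B`.
-/

set_option autoImplicit false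
universe u
open CategoryTheory CategoryTheory.Limits AlgebraicGeometry

namespace K790.FibPt

section

variable {K B : Type u} [Field K] [IsAlgClosed K] [CommRing B] [Algebra K B] [Module.Finite K B]

theorem exists_point (y : Spec (CommRingCat.of B)) : ∃ (χ : B →ₐ[K] K)
    (g : (Spec (CommRingCat.of B)).residueField y ⟶ CommRingCat.of K), IsIso g ∧
    Spec.map (CommRingCat.ofHom (χ : B →+* K)) = Spec.map g ≫ (Spec (CommRingCat.of B)).fromSpecResidueField y := by
  have : IsArtinianRing B := IsArtinianRing.of_finite K B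
  have hp : y.asIdeal.IsPrime := y.isPrime
  have hy : y.asIdeal.IsMaximal := IsArtinianRing.isMaximal_of_isPrime (R := B) y.asIdeal
  have hs : Function.Surjective (algebraMap B y.asIdeal.ResidueField) :=
    Ideal.algebraMap_residueField_surjective y.asIdeal
  have hf : Module.Finite K y.asIdeal.ResidueField :=
    Module.Finite.of_surjective (IsScalarTower.toAlgHom K B y.asIdeal.ResidueField).toLinearMap hs
  have hb : Function.Bijective (algebraMap K y.asIdeal.ResidueField) :=
    IsAlgClosed.algebraMap_bijective_of_isIntegral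
  let ρ : K ≃ₐ[K] y.asIdeal.ResidueField := AlgEquiv.ofBijective (Algebra.ofId K _) hb
  let χ : B →ₐ[K] K := (ρ.symm : y.asIdeal.ResidueField →ₐ[K] K).comp
    (IsScalarTower.toAlgHom K B y.asIdeal.ResidueField)
  let g := (Scheme.Spec.residueFieldIso (CommRingCat.of B) y).hom ≫ ρ.symm.toRingEquiv.toCommRingCatIso.hom
  refine ⟨χ, g, inferInstance, ?_⟩
  rw [← Scheme.Spec.map_residueFieldIso_inv_eq_fromSpecResidueField, ← Spec.map_comp, ← Spec.map_comp]
  congr 1
  simp only [g, Category.assoc, Iso.inv_hom_id_assoc]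
  rfl

end

variable {Y S : Scheme.{u}}

/-- The fibre as a base change along a morphism from the spectrum of the residue field. -/
theorem exists_fiber_iso (f : Y ⟶ S) (y : S) {T Z : Scheme.{u}} (a : T ⟶ Spec (S.residueField y)) [IsIso a]
    {s : T ⟶ S} (hs : s = a ≫ S.fromSpecResidueField y) {j : Z ⟶ Y} {q : Z ⟶ T} (sq : IsPullback j q f s) :
    ∃ t : Z ⟶ f.fiber y, IsIso t ∧ t ≫ f.fiberι y = j := by
  subst hs
  let t : Z ⟶ f.fiber y := pullback.lift j (q ≫ a) (by rw [sq.w, Category.assoc])
  have h1 : IsPullback t q (f.fiberToSpecResidueField y) a := by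
    refine IsPullback.of_right (h₁₂ := f.fiberι y) (h₂₂ := S.fromSpecResidueField y) (v₁₃ := f) ?_ ?_ ?_
    · have : t ≫ f.fiberι y = j := pullback.lift_fst _ _ _
      rw [this]
      exact sq
    · exact pullback.lift_snd _ _ _
    · exact IsPullback.of_hasPullback f (S.fromSpecResidueField y)
  exact ⟨t, h1.isIso_fst_of_isIso, pullback.lift_fst _ _ _⟩

theorem nonempty_iso_of_pull {Z F : Scheme.{u}} (t : Z ⟶ F) [IsIso t] (A B : F.Modules)
    (h : Nonempty ((Scheme.Modules.pullback t).obj A ≅ (Scheme.Modules.pullback t).obj B)) :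
    Nonempty (A ≅ B) := by
  obtain ⟨e⟩ := h
  have key (M : F.Modules) : Nonempty ((Scheme.Modules.pullback (inv t)).obj ((Scheme.Modules.pullback t).obj M) ≅ M) :=
    ⟨(Scheme.Modules.pullbackComp (inv t) t).app M ≪≫
      (Scheme.Modules.pullbackCongr (IsIso.inv_hom_id t)).app M ≪≫ (Scheme.Modules.pullbackId F).app M⟩
  obtain ⟨a⟩ := key A
  obtain ⟨b⟩ := key B
  exact ⟨a.symm ≪≫ (Scheme.Modules.pullback (inv t)).mapIso e ≪≫ b⟩

end K790.FibPt
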