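import Groth.Agent.ASBun.K790.Level
import Groth.Agent.PerfB.ApproxRel
import Groth.Agent.CohqA.AffineBaseChange
import Mathlib.FieldTheory.IntermediateField.Adjoin.Algebra
import Mathlib.RingTheory.Algebraic.Integral

/-!
# Coherent modules on `X_K` come from a finite level
-/

set_option autoImplicit false
set_option backward.isDefEq.respectTransparency false
universe u
open CategoryTheory CategoryTheory.Limits AlgebraicGeometry Opposite TopologicalSpace

namespace K790.FiniteLevel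

open W4c1astiltbs12 W4bk4gw11416 K790.Level Groth.Agent Groth.Agent.PerfB

/-- A pushout of commutative rings is generated by the images. -/
theorem eq_top_of_isPushout {Z A B P : CommRingCat.{u}} {f : Z ⟶ A} {g : Z ⟶ B} {inl : A ⟶ P} {inr : B ⟶ P}
    (h : IsPushout f g inl inr) (R : Subring P) (h1 : ∀ a, inl a ∈ R) (h2 : ∀ b, inr b ∈ R) (t : P) : t ∈ R := by
  let i1 : A ⟶ CommRingCat.of R := CommRingCat.ofHom (inl.hom.codRestrict R h1)
  let i2 : B ⟶ CommRingCat.of R := CommRingCat.ofHom (inr.hom.codRestrict R h2)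
  let s : CommRingCat.of R ⟶ P := CommRingCat.ofHom R.subtype
  have e1 : i1 ≫ s = inl := rfl
  have e2 : i2 ≫ s = inr := rfl
  have w : f ≫ i1 = g ≫ i2 := by
    refine CommRingCat.hom_ext (RingHom.ext fun x => Subtype.ext ?_)
    exact congr($(h.w) x)
  have e3 : h.desc i1 i2 w ≫ s = 𝟙 P := by
    apply h.hom_ext
    · rw [h.inl_desc_assoc, e1, Category.comp_id]
    · rw [h.inr_desc_assoc, e2, Category.comp_id]
  have h3 : s (h.desc i1 i2 w t) = t := congr($e3 t)
  rw [← h3]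
  exact (h.desc i1 i2 w t).2

variable {k : Type u} [Field k] {X : Scheme.{u}} (p : X ⟶ Spec (CommRingCat.of k))
  (K : Type u) [Field K] [Algebra k K]

theorem isAffineHom_proj (L : Type u) [CommRing L] [Algebra k L] : IsAffineHom (proj p L) :=
  MorphismProperty.of_isPullback (isPullback_proj p).flip
    (inferInstanceAs (IsAffineHom (Spec.map (CommRingCat.ofHom (algebraMap k L)))))

theorem appLE_of_eq {X Y : Scheme.{u}} {f g : X ⟶ Y} (h : f = g) (U : Y.Opens) (V : X.Opens) (e : V ≤ f ⁻¹ᵁ U) :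
    f.appLE U V e = g.appLE U V (h ▸ e) := by
  subst h; rfl

theorem isAffineHom_bcMap {L L' : Type u} [CommRing L] [Algebra k L] [CommRing L'] [Algebra k L']
    (σ : L →ₐ[k] L') : IsAffineHom (bcMap p σ) :=
  MorphismProperty.of_isPullback (isPullback_bcMap p σ).flip
    (inferInstanceAs (IsAffineHom (Spec.map (CommRingCat.ofHom (σ : L →+* L')))))

theorem preimage_eq {L L' : Type u} [CommRing L] [Algebra k L] [CommRing L'] [Algebra k L']
    (σ : L →ₐ[k] L') (U : X.Opens) : bcMap p σ ⁻¹ᵁ (proj p L ⁻¹ᵁ U) = proj p L' ⁻¹ᵁ U := by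
  rw [← Scheme.Hom.comp_preimage, bcMap_proj]

/-- Functions on the preimage of an affine open come from a finite level. -/
theorem exists_coeff {U : X.Opens} (hU : IsAffineOpen U) (t : Γ(baseChange p K, proj p K ⁻¹ᵁ U)) :
    ∃ S : Finset K, ∀ (L : Type u) [CommRing L] [Algebra k L] (τ : L →ₐ[k] K), (S : Set K) ⊆ Set.range τ →
      t ∈ ((bcMap p τ).appLE (proj p L ⁻¹ᵁ U) (proj p K ⁻¹ᵁ U) (preimage_eq p τ U).ge).hom.range := by
  classical
  let R : Subring Γ(baseChange p K, proj p K ⁻¹ᵁ U) :=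
    { carrier := {t | ∃ S : Finset K, ∀ (L : Type u) [CommRing L] [Algebra k L] (τ : L →ₐ[k] K), (S : Set K) ⊆ Set.range τ →
        t ∈ ((bcMap p τ).appLE (proj p L ⁻¹ᵁ U) (proj p K ⁻¹ᵁ U) (preimage_eq p τ U).ge).hom.range}
      mul_mem' := by
        rintro a b ⟨S, hS⟩ ⟨S', hS'⟩
        refine ⟨S ∪ S', fun L _ _ τ hL => mul_mem (hS L τ ?_) (hS' L τ ?_)⟩
        · exact (Finset.coe_subset.2 Finset.subset_union_left).trans hL
        · exact (Finset.coe_subset.2 Finset.subset_union_right).trans hL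
      one_mem' := ⟨∅, fun L _ _ _ _ => one_mem _⟩
      add_mem' := by
        rintro a b ⟨S, hS⟩ ⟨S', hS'⟩
        refine ⟨S ∪ S', fun L _ _ τ hL => add_mem (hS L τ ?_) (hS' L τ ?_)⟩
        · exact (Finset.coe_subset.2 Finset.subset_union_left).trans hL
        · exact (Finset.coe_subset.2 Finset.subset_union_right).trans hL
      zero_mem' := ⟨∅, fun L _ _ _ _ => zero_mem _⟩
      neg_mem' := by
        rintro a ⟨S, hS⟩
        exact ⟨S, fun L _ _ τ hL => neg_mem (hS L τ hL)⟩ }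
  have hsq := isPullback_proj (L := K) p
  have h1 := CohqA.AffineBaseChange.isPushout_appLE hsq.flip (V := ⊤) (V' := U) (isAffineOpen_top _) hU le_top
  refine eq_top_of_isPushout h1 R (fun a => ?_) (fun b => ?_) t
  · refine ⟨∅, fun L _ _ τ _ => ⟨(proj p L).appLE U (proj p L ⁻¹ᵁ U) le_rfl a, ?_⟩⟩
    have h2 : (proj p L).appLE U (proj p L ⁻¹ᵁ U) le_rfl ≫
        (bcMap p τ).appLE (proj p L ⁻¹ᵁ U) (proj p K ⁻¹ᵁ U) (preimage_eq p τ U).ge =
        (proj p K).appLE U (proj p K ⁻¹ᵁ U) le_rfl := by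
      rw [Scheme.Hom.appLE_comp_appLE, appLE_of_eq (bcMap_proj p τ)]
    exact congr($h2 a)
  · obtain ⟨c, hc⟩ : ∃ c : K, (Scheme.ΓSpecIso (CommRingCat.of K)).inv c = b :=
      ⟨(Scheme.ΓSpecIso (CommRingCat.of K)).hom b, by
        rw [← CommRingCat.comp_apply, Iso.hom_inv_id]; rfl⟩
    refine ⟨{c}, fun L _ _ τ hL => ?_⟩
    obtain ⟨c', hcL⟩ := hL (show c ∈ (({c} : Finset K) : Set K) by simp)
    refine ⟨(baseChangeTo p L).appLE ⊤ (proj p L ⁻¹ᵁ U) le_top
      ((Scheme.ΓSpecIso (CommRingCat.of L)).inv c'), ?_⟩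
    have h2 : (baseChangeTo p L).appLE ⊤ (proj p L ⁻¹ᵁ U) le_top ≫
        (bcMap p τ).appLE (proj p L ⁻¹ᵁ U) (proj p K ⁻¹ᵁ U) (preimage_eq p τ U).ge =
        (Spec.map (CommRingCat.ofHom (τ : L →+* K))).appLE ⊤ ⊤ le_top ≫
        (baseChangeTo p K).appLE ⊤ (proj p K ⁻¹ᵁ U) le_top := by
      rw [Scheme.Hom.appLE_comp_appLE, appLE_of_eq (bcMap_to p τ), Scheme.Hom.appLE_comp_appLE]
    have h3 : (Scheme.ΓSpecIso (CommRingCat.of L)).inv ≫
        (Spec.map (CommRingCat.ofHom (τ : L →+* K))).appLE ⊤ ⊤ le_top =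
        CommRingCat.ofHom (τ : L →+* K) ≫ (Scheme.ΓSpecIso (CommRingCat.of K)).inv := by
      have h4 : (Spec.map (CommRingCat.ofHom (τ : L →+* K))).appTop =
          (Spec.map (CommRingCat.ofHom (τ : L →+* K))).appLE ⊤ ⊤ le_top := Scheme.Hom.app_eq_appLE _
      rw [← h4, Scheme.ΓSpecIso_inv_naturality]
    have h5 := congr($h2 ((Scheme.ΓSpecIso (CommRingCat.of L)).inv c'))
    have h6 := congr($h3 c')
    refine h5.trans ?_
    refine (congrArg (fun z => (baseChangeTo p K).appLE ⊤ (proj p K ⁻¹ᵁ U) le_top z) h6).trans ?_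
    refine congrArg (fun z => (baseChangeTo p K).appLE ⊤ (proj p K ⁻¹ᵁ U) le_top z) ?_
    rw [← hc, ← hcL]
    rfl

/-- Finitely presented modules on `X_K`, `K` algebraic over `k`, come from a finite level. -/
theorem exists_level [CompactSpace X] [QuasiSeparatedSpace X] [Algebra.IsAlgebraic k K]
    (W : (baseChange p K).Modules) (hW : Coh.IsQCoh W) (hW' : CohB1.IsFP W) :
    ∃ (L : IntermediateField k K) (_ : FiniteDimensional k L) (W' : (baseChange p L).Modules),
      Coh.IsCoh W' ∧ Nonempty ((Scheme.Modules.pullback (bcMap p L.val)).obj W' ≅ W) := by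
  classical
  have := isAffineHom_proj p K
  obtain ⟨G, γ, T, hG, hG', hT, hR⟩ := ApproxRel.exists_rel (proj p K) W hW hW'
  let R : ∀ V : T, ApproxStage.Rel γ ((V : X.affineOpens) : X.Opens) := fun V => (hR V.1 V.2).some
  have h1 : ∀ (V : T) (l : Fin (R V).m) (i : Fin (R V).n), ∃ S : Finset K,
      ∀ (L : Type u) [CommRing L] [Algebra k L] (τ : L →ₐ[k] K), (S : Set K) ⊆ Set.range τ →
      (R V).k l i ∈ ((bcMap p τ).appLE (proj p L ⁻¹ᵁ ((V : X.affineOpens) : X.Opens))
        (proj p K ⁻¹ᵁ ((V : X.affineOpens) : X.Opens)) (preimage_eq p τ _).ge).hom.range :=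
    fun V l i => exists_coeff p K V.1.2 _
  choose S hS using h1
  let S' : Finset K := Finset.univ.biUnion fun V : T => Finset.univ.biUnion fun l : Fin (R V).m =>
    Finset.univ.biUnion fun i : Fin (R V).n => S V l i
  let L : IntermediateField k K := IntermediateField.adjoin k (S' : Set K)
  have hfin : FiniteDimensional k L :=
    IntermediateField.finiteDimensional_adjoin fun x _ => Algebra.IsIntegral.isIntegral x
  have hSL : (S' : Set K) ⊆ Set.range L.val := by
    intro x hx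
    exact ⟨⟨x, IntermediateField.subset_adjoin k _ hx⟩, rfl⟩
  have i1 := isAffineHom_proj p L
  have i2 := isAffineHom_bcMap p L.val
  obtain ⟨W', h2, h3, h4⟩ := ApproxStage.stage (bcMap p L.val) (proj p L) (bcMap_proj p L.val) γ hG
    (Models2.FPCoh.isFT_of_isFP hG') hW (fun x => by
      obtain ⟨V, hV, hx⟩ := hT x
      refine ⟨V, hx, V.2, R ⟨V, hV⟩, fun l i => ?_⟩
      refine hS ⟨V, hV⟩ l i L L.val (Set.Subset.trans ?_ hSL)
      intro x hx
      simp only [S', Finset.coe_biUnion, Set.mem_iUnion]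
      exact ⟨⟨V, hV⟩, by simp, l, by simp, i, by simp, hx⟩)
  exact ⟨L, hfin, W', ⟨h2, h3⟩, h4⟩

end K790.FiniteLevel
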