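import Groth.Agent.CohqA.BasisHom

/-!
# Gluing isomorphisms of modules over disjoint opens

* `nonempty_iso_of_disjoint`: `j i : V i ⟶ X` open immersions, jointly surjective with disjoint images; modules `M`,
  `N` on `X` with `(j i)^* M ≅ (j i)^* N` for all `i` are isomorphic.
-/

set_option autoImplicit false
set_option backward.isDefEq.respectTransparency false
universe u

open CategoryTheory AlgebraicGeometry Limits Opposite TopologicalSpace AlgebraicGeometry.Scheme.Modules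

namespace K790.Glue

open Groth.Agent.CohqA.BasisHom Groth.Agent.CohqA.PullbackQCoh Groth.Agent.CohqA.PullbackSections

variable {X U : Scheme.{u}} {M N : X.Modules} {j : U ⟶ X} [IsOpenImmersion j]

theorem le_image {V : X.Opens} (hV : V ≤ j.opensRange) : V ≤ j ''ᵁ (j ⁻¹ᵁ V) := by
  rw [Scheme.Hom.image_preimage_eq_opensRange_inf]
  exact le_inf hV le_rfl

/-- The map on sections over `V ≤ U` given by a morphism of the restrictions to `U`. -/
noncomputable def secMap (e : M.restrict j ⟶ N.restrict j) (V : X.Opens) (hV : V ≤ j.opensRange) :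
    Γ(M, V) →+ Γ(N, V) :=
  (N.presheaf.map (homOfLE (le_image hV)).op).hom.comp
    ((e.app (j ⁻¹ᵁ V)).hom.comp (M.presheaf.map (homOfLE (j.image_preimage_le V)).op).hom)

theorem secMap_apply (e : M.restrict j ⟶ N.restrict j) (V : X.Opens) (hV : V ≤ j.opensRange) (m : Γ(M, V)) :
    secMap e V hV m = N.presheaf.map (homOfLE (le_image hV)).op
      (e.app (j ⁻¹ᵁ V) (M.presheaf.map (homOfLE (j.image_preimage_le V)).op m)) := rfl

theorem res_res (N : X.Modules) {U V W : X.Opens} (h : V ≤ U) (h' : W ≤ V) (s : Γ(N, U)) :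
    N.presheaf.map (homOfLE h').op (N.presheaf.map (homOfLE h).op s) =
      N.presheaf.map (homOfLE (h'.trans h)).op s := by
  rw [← ConcreteCategory.comp_apply, ← Functor.map_comp]
  rfl

theorem res_self (N : X.Modules) {U : X.Opens} (h : U ≤ U) (s : Γ(N, U)) :
    N.presheaf.map (homOfLE h).op s = s := by
  have : (homOfLE h).op = 𝟙 (op U) := rfl
  rw [this, N.presheaf.map_id]
  rfl

theorem app_res (e : M.restrict j ⟶ N.restrict j) {V W : U.Opens} (h : W ≤ V)
    (h' : j ''ᵁ W ≤ j ''ᵁ V) (m : Γ(M, j ''ᵁ V)) :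
    e.app W (M.presheaf.map (homOfLE h').op m) = N.presheaf.map (homOfLE h').op (e.app V m) := by
  have := e.mapPresheaf.naturality (homOfLE h).op
  exact congr($this m)

theorem secMap_res (e : M.restrict j ⟶ N.restrict j) {V W : X.Opens} (hV : V ≤ j.opensRange) (h : W ≤ V)
    (m : Γ(M, V)) : secMap e W (h.trans hV) (M.presheaf.map (homOfLE h).op m) =
      N.presheaf.map (homOfLE h).op (secMap e V hV m) := by
  rw [secMap_apply, secMap_apply]
  have h1 : j ⁻¹ᵁ W ≤ j ⁻¹ᵁ V := j.preimage_mono h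
  have h2 := app_res e h1 (j.image_mono h1) (M.presheaf.map (homOfLE (j.image_preimage_le V)).op m)
  rw [res_res] at h2
  rw [res_res, h2, res_res, res_res]

theorem secMap_smul (e : M.restrict j ⟶ N.restrict j) (V : X.Opens) (hV : V ≤ j.opensRange)
    (r : Γ(X, V)) (m : Γ(M, V)) : secMap e V hV (r • m) = r • secMap e V hV m := by
  rw [secMap_apply, secMap_apply, Scheme.Modules.map_smul]
  set r' := X.presheaf.map (homOfLE (j.image_preimage_le V)).op r with hr'
  set m' := M.presheaf.map (homOfLE (j.image_preimage_le V)).op m with hm'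
  have h1 := Hom.app_smul e (U := j ⁻¹ᵁ V) ((j.appIso (j ⁻¹ᵁ V)).hom r') m'
  have h2 : ((j.appIso (j ⁻¹ᵁ V)).hom r' • (show Γ(M.restrict j, j ⁻¹ᵁ V) from m') : Γ(M.restrict j, j ⁻¹ᵁ V)) =
      (r' • m' : Γ(M, j ''ᵁ (j ⁻¹ᵁ V))) := by
    change (j.appIso (j ⁻¹ᵁ V)).inv ((j.appIso (j ⁻¹ᵁ V)).hom r') • m' = r' • m'
    rw [← CommRingCat.comp_apply, Iso.hom_inv_id]
    rfl
  have h3 : ((j.appIso (j ⁻¹ᵁ V)).hom r' • (show Γ(N.restrict j, j ⁻¹ᵁ V) from e.app _ m') : Γ(N.restrict j, j ⁻¹ᵁ V)) =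
      (r' • (show Γ(N, j ''ᵁ (j ⁻¹ᵁ V)) from e.app _ m') : Γ(N, j ''ᵁ (j ⁻¹ᵁ V))) := by
    change (j.appIso (j ⁻¹ᵁ V)).inv ((j.appIso (j ⁻¹ᵁ V)).hom r') • (show Γ(N, j ''ᵁ (j ⁻¹ᵁ V)) from e.app _ m') = _
    rw [← CommRingCat.comp_apply, Iso.hom_inv_id]
    rfl
  have h4 : e.app (j ⁻¹ᵁ V) (r' • m' : Γ(M, j ''ᵁ (j ⁻¹ᵁ V))) =
      (r' • (show Γ(N, j ''ᵁ (j ⁻¹ᵁ V)) from e.app _ m') : Γ(N, j ''ᵁ (j ⁻¹ᵁ V))) := by
    rw [← h3, ← h1]
    exact congrArg _ h2.symm
  rw [h4]
  have h5 := Scheme.Modules.map_smul N (homOfLE (le_image hV)) r' (show Γ(N, j ''ᵁ (j ⁻¹ᵁ V)) from e.app _ m')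
  refine h5.trans ?_
  congr 1
  rw [hr', ← CommRingCat.comp_apply, ← Functor.map_comp]
  have : (homOfLE (j.image_preimage_le V)).op ≫ (homOfLE (le_image hV)).op = 𝟙 (op V) := rfl
  rw [this, X.presheaf.map_id]
  rfl

theorem secMap_comp {P : X.Modules} (e : M.restrict j ⟶ N.restrict j) (e' : N.restrict j ⟶ P.restrict j)
    (V : X.Opens) (hV : V ≤ j.opensRange) (m : Γ(M, V)) :
    secMap e' V hV (secMap e V hV m) = secMap (e ≫ e') V hV m := by
  rw [secMap_apply, secMap_apply, secMap_apply, res_res, res_self]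
  rfl

theorem secMap_id (V : X.Opens) (hV : V ≤ j.opensRange) (m : Γ(M, V)) :
    secMap (𝟙 (M.restrict j)) V hV m = m := by
  rw [secMap_apply]
  exact (res_res M _ _ m).trans (res_self M _ m)

theorem secMap_bijective (e : M.restrict j ≅ N.restrict j) (V : X.Opens) (hV : V ≤ j.opensRange) :
    Function.Bijective (secMap e.hom V hV) := by
  refine Function.bijective_iff_has_inverse.2 ⟨secMap e.inv V hV, fun m => ?_, fun m => ?_⟩
  · rw [secMap_comp, e.hom_inv_id, secMap_id]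
  · rw [secMap_comp, e.inv_hom_id, secMap_id]

theorem subsingleton_bot (M : X.Modules) {U : X.Opens} (hU : U = ⊥) : Subsingleton Γ(M, U) := by
  refine ⟨fun s t => eq_of_locally_eq M s t fun x hx => ?_⟩
  subst hU
  exact hx.elim

theorem nonempty_iso_of_disjoint' {ι : Type*} {W : ι → Scheme.{u}} (j : ∀ i, W i ⟶ X)
    [∀ i, IsOpenImmersion (j i)] (hj : ∀ x : X, ∃ i, x ∈ (j i).opensRange)
    (hd : ∀ i i', i ≠ i' → (j i).opensRange ⊓ (j i').opensRange = ⊥)
    (e : ∀ i, M.restrict (j i) ≅ N.restrict (j i)) : Nonempty (M ≅ N) := by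
  classical
  let B := {V : X.Opens // ∃ i, V ≤ (j i).opensRange}
  have hB : Opens.IsBasis (Set.range (Subtype.val : B → X.Opens)) := by
    rw [Subtype.range_coe_subtype, Opens.isBasis_iff_nbhd]
    intro V x hx
    obtain ⟨i, hi⟩ := hj x
    exact ⟨V ⊓ (j i).opensRange, ⟨i, inf_le_right⟩, ⟨hx, hi⟩, inf_le_left⟩
  have key : ∀ (V : X.Opens) (i i') (h : V ≤ (j i).opensRange) (h' : V ≤ (j i').opensRange) (m : Γ(M, V)),
      secMap (e i).hom V h m = secMap (e i').hom V h' m := by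
    intro V i i' h h' m
    by_cases hii : i = i'
    · subst hii; rfl
    · have : V = ⊥ := by
        rw [eq_bot_iff, ← hd i i' hii]
        exact le_inf h h'
      have := subsingleton_bot N this
      exact Subsingleton.elim _ _
  obtain ⟨ψ, hψ⟩ := exists_hom_of_basis (M := M) (N := N) (Subtype.val : B → X.Opens) hB
    (fun V => secMap (e V.2.choose).hom V.1 V.2.choose_spec)
    (fun V W h m => by
      rw [← secMap_res]
      exact key _ _ _ _ _ _)
    (fun V r m => secMap_smul _ _ _ r m)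
  have : IsIso ψ := isIso_of_bijective_basis ψ (Subtype.val : B → X.Opens) hB (fun V => by
    have h1 : (ψ.app V.1 : Γ(M, V.1) → Γ(N, V.1)) = secMap (e V.2.choose).hom V.1 V.2.choose_spec := by
      funext m
      exact hψ V m
    change Function.Bijective (ψ.app V.1 : Γ(M, V.1) → Γ(N, V.1))
    rw [h1]
    exact secMap_bijective _ _ _)
  exact ⟨asIso ψ⟩

theorem nonempty_iso_of_disjoint {ι : Type*} {W : ι → Scheme.{u}} (j : ∀ i, W i ⟶ X)
    [∀ i, IsOpenImmersion (j i)] (hj : ∀ x : X, ∃ i, x ∈ (j i).opensRange)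
    (hd : ∀ i i', i ≠ i' → (j i).opensRange ⊓ (j i').opensRange = ⊥)
    (e : ∀ i, Nonempty ((Scheme.Modules.pullback (j i)).obj M ≅ (Scheme.Modules.pullback (j i)).obj N)) :
    Nonempty (M ≅ N) :=
  nonempty_iso_of_disjoint' j hj hd fun i =>
    (restrictFunctorIsoPullback (j i)).app M ≪≫ (e i).some ≪≫ ((restrictFunctorIsoPullback (j i)).app N).symm

end K790.Glue
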