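import Groth.Prelude.Def_W4c1astiltbs12AS
import Mathlib.AlgebraicGeometry.Pullbacks
import Mathlib.AlgebraicGeometry.Morphisms.Flat

/-!
# The base changes `X_L` and the maps between them

* `bcMap p σ : X_{L'} ⟶ X_L` for `σ : L →ₐ[k] L'`, its composites with the projections, functoriality;
* `isPullback_bcMap`: `X_{L'} = X_L ×_L L'`;
* `isPullback_tensor`: `X_{K ⊗ L} = X_K ×_X X_L`;
* `galAct_eq`.
-/

set_option autoImplicit false
universe u
open CategoryTheory CategoryTheory.Limits AlgebraicGeometry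
open scoped TensorProduct

namespace K790.Level

open W4c1astiltbs12 W4bk4gw11416

variable {k : Type u} [Field k] {X : Scheme.{u}} (p : X ⟶ Spec (CommRingCat.of k))

section

variable {L L' L'' : Type u} [CommRing L] [Algebra k L] [CommRing L'] [Algebra k L'] [CommRing L'']
  [Algebra k L'']

theorem specMap_alg (σ : L →ₐ[k] L') : Spec.map (CommRingCat.ofHom (σ : L →+* L')) ≫
    Spec.map (CommRingCat.ofHom (algebraMap k L)) = Spec.map (CommRingCat.ofHom (algebraMap k L')) := by
  rw [← Spec.map_comp, ← CommRingCat.ofHom_comp, AlgHom.comp_algebraMap]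

/-- The map `X_{L'} ⟶ X_L` over `X` given by an algebra homomorphism. -/
noncomputable def bcMap (σ : L →ₐ[k] L') : baseChange p L' ⟶ baseChange p L :=
  pullback.lift (proj p L') (baseChangeTo p L' ≫ Spec.map (CommRingCat.ofHom (σ : L →+* L'))) (by
    rw [Category.assoc, specMap_alg]
    exact pullback.condition)

@[reassoc (attr := simp)]
theorem bcMap_proj (σ : L →ₐ[k] L') : bcMap p σ ≫ proj p L = proj p L' := pullback.lift_fst _ _ _

@[reassoc (attr := simp)]
theorem bcMap_to (σ : L →ₐ[k] L') : bcMap p σ ≫ baseChangeTo p L =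
    baseChangeTo p L' ≫ Spec.map (CommRingCat.ofHom (σ : L →+* L')) := pullback.lift_snd _ _ _

theorem bcMap_comp (σ : L →ₐ[k] L') (τ : L' →ₐ[k] L'') : bcMap p (τ.comp σ) = bcMap p τ ≫ bcMap p σ := by
  apply pullback.hom_ext
  · simp
  · rw [bcMap_to, Category.assoc, bcMap_to, bcMap_to_assoc, ← Spec.map_comp, ← CommRingCat.ofHom_comp]
    rfl

theorem bcMap_id : bcMap p (AlgHom.id k L) = 𝟙 _ := by
  apply pullback.hom_ext
  · simp
  · rw [bcMap_to]
    have : CommRingCat.ofHom ((AlgHom.id k L : L →ₐ[k] L) : L →+* L) = 𝟙 _ := rfl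
    rw [this, Spec.map_id, Category.comp_id, Category.id_comp]

theorem isPullback_proj : IsPullback (proj p L) (baseChangeTo p L) p
    (Spec.map (CommRingCat.ofHom (algebraMap k L))) := IsPullback.of_hasPullback _ _

/-- `X_{L'} = X_L ×_L L'`. -/
theorem isPullback_bcMap (σ : L →ₐ[k] L') : IsPullback (bcMap p σ) (baseChangeTo p L')
    (baseChangeTo p L) (Spec.map (CommRingCat.ofHom (σ : L →+* L'))) := by
  refine IsPullback.of_right (h₁₂ := proj p L) (v₁₃ := p)
    (h₂₂ := Spec.map (CommRingCat.ofHom (algebraMap k L))) ?_ (bcMap_to p σ) (isPullback_proj p)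
  rw [bcMap_proj, specMap_alg]
  exact isPullback_proj p

theorem isPullback_spec_tensor : IsPullback
    (Spec.map (CommRingCat.ofHom ((Algebra.TensorProduct.includeRight : L' →ₐ[k] L ⊗[k] L') : L' →+* L ⊗[k] L')))
    (Spec.map (CommRingCat.ofHom ((Algebra.TensorProduct.includeLeft : L →ₐ[k] L ⊗[k] L') : L →+* L ⊗[k] L')))
    (Spec.map (CommRingCat.ofHom (algebraMap k L'))) (Spec.map (CommRingCat.ofHom (algebraMap k L))) := by
  refine IsPullback.flip ?_
  refine IsPullback.of_iso_pullback ⟨?_⟩ (pullbackSpecIso k L L').symm ?_ ?_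
  · rw [specMap_alg, specMap_alg]
  · exact pullbackSpecIso_inv_fst k L L'
  · exact pullbackSpecIso_inv_snd k L L'

/-- `X_{L ⊗ L'} = X_L ×_X X_{L'}`. -/
theorem isPullback_tensor : IsPullback
    (bcMap p (Algebra.TensorProduct.includeRight : L' →ₐ[k] L ⊗[k] L'))
    (bcMap p (Algebra.TensorProduct.includeLeft : L →ₐ[k] L ⊗[k] L')) (proj p L') (proj p L) := by
  refine IsPullback.of_right (h₁₂ := baseChangeTo p L')
    (v₁₃ := Spec.map (CommRingCat.ofHom (algebraMap k L'))) (h₂₂ := p) ?_ ?_ (isPullback_proj p).flip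
  · have h1 := (isPullback_bcMap p (Algebra.TensorProduct.includeLeft : L →ₐ[k] L ⊗[k] L')).flip.paste_horiz
      (isPullback_spec_tensor (k := k) (L := L) (L' := L'))
    have h2 : proj p L ≫ p = baseChangeTo p L ≫ Spec.map (CommRingCat.ofHom (algebraMap k L)) :=
      pullback.condition
    rw [h2, bcMap_to]
    exact h1
  · rw [bcMap_proj, bcMap_proj]

theorem galAct_eq (K : Type u) [Field K] [Algebra k K] (σ : K ≃ₐ[k] K) :
    galAct p K σ = bcMap p (σ : K →ₐ[k] K) := by
  apply pullback.hom_ext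
  · rw [bcMap_proj, galAct, pullback.map, pullback.lift_fst, Category.comp_id]
  · rw [bcMap_to, galAct, pullback.map, pullback.lift_snd]
    rfl

theorem pull_comp {X Y Z : Scheme.{u}} (f : X ⟶ Y) (g : Y ⟶ Z) (M : Z.Modules) :
    Nonempty ((Scheme.Modules.pullback f).obj ((Scheme.Modules.pullback g).obj M) ≅
      (Scheme.Modules.pullback (f ≫ g)).obj M) :=
  ⟨(Scheme.Modules.pullbackComp f g).app M⟩

theorem pull_congr {X Y : Scheme.{u}} {f g : X ⟶ Y} (h : f = g) (M : Y.Modules) :
    Nonempty ((Scheme.Modules.pullback f).obj M ≅ (Scheme.Modules.pullback g).obj M) := by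
  subst h; exact ⟨Iso.refl _⟩

theorem pull_id {X : Scheme.{u}} (M : X.Modules) :
    Nonempty ((Scheme.Modules.pullback (𝟙 X)).obj M ≅ M) :=
  ⟨(Scheme.Modules.pullbackId X).app M⟩

end

end K790.Level
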