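import Groth.Agent.ASBun.K790.SepAlg
import Groth.Agent.ASBun.K790.Level
import Groth.Agent.ASBun.K790.Glue
import Mathlib.AlgebraicGeometry.Limits
import Mathlib.AlgebraicGeometry.PullbackCarrier
import Mathlib.RingTheory.Spectrum.Prime.RingHom

/-!
# Modules on `Y` over `Spec B` for `B` a finite product of fields

* `nonempty_iso_of_pi`: for `Y` over `Spec B`, `B ≃+* K^ι`, two modules on `Y` are isomorphic when their
  pullbacks along the base changes of the components `Spec K ⟶ Spec B` are.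
* `nonempty_iso_of_chi`: the case of `X_{K ⊗ L}`, `L/k` finite separable, `K` separably closed.
-/

set_option autoImplicit false
universe u
open CategoryTheory CategoryTheory.Limits AlgebraicGeometry
open scoped TensorProduct

namespace K790.Sep

open W4c1astiltbs12 W4bk4gw11416 K790.Level K790.SepAlg

section Pi

variable {B : Type u} [CommRing B] {ι : Type u} {K : Type u} [Field K] (E : B ≃+* (ι → K))
  (φ : ι → B →+* K) (hφ : ∀ i b, φ i b = E b i)

include hφ

theorem specMap_eq (i : ι) : Spec.map (CommRingCat.ofHom (φ i)) =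
    Spec.map (CommRingCat.ofHom (Pi.evalRingHom (fun _ : ι => K) i)) ≫
      Spec.map (CommRingCat.ofHom (E : B →+* (ι → K))) := by
  rw [← Spec.map_comp, ← CommRingCat.ofHom_comp]
  congr 2
  ext b
  exact hφ i b

omit hφ in
theorem isIso_E : IsIso (Spec.map (CommRingCat.ofHom (E : B →+* (ι → K)))) := by
  have : IsIso (CommRingCat.ofHom (E : B →+* (ι → K))) := E.toCommRingCatIso.isIso_hom
  infer_instance

theorem isOpenImmersion_specMap (i : ι) : IsOpenImmersion (Spec.map (CommRingCat.ofHom (φ i))) := by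
  have := isIso_E E
  rw [specMap_eq E φ hφ i]
  infer_instance

theorem exists_eq [Finite ι] (y : PrimeSpectrum B) : ∃ (i : ι) (z : PrimeSpectrum K),
    PrimeSpectrum.comap (φ i) z = y := by
  obtain ⟨i, z, hz⟩ := PrimeSpectrum.exists_comap_evalRingHom_eq
    (PrimeSpectrum.comap (E.symm : (ι → K) →+* B) y)
  refine ⟨i, z, ?_⟩
  have h1 : φ i = (Pi.evalRingHom (fun _ : ι => K) i).comp (E : B →+* (ι → K)) := by
    ext b; exact hφ i b
  rw [h1, PrimeSpectrum.comap_comp_apply, hz, ← PrimeSpectrum.comap_comp_apply]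
  have h2 : (E.symm : (ι → K) →+* B).comp (E : B →+* (ι → K)) = RingHom.id B := by
    ext b; simp
  rw [h2]
  rfl

theorem eq_of_comap_eq (i i' : ι) (z z' : PrimeSpectrum K)
    (h : PrimeSpectrum.comap (φ i) z = PrimeSpectrum.comap (φ i') z') : i = i' := by
  classical
  by_contra hne
  have h1 : E.symm (Pi.single i 1) ∈ (PrimeSpectrum.comap (φ i') z').asIdeal := by
    change φ i' _ ∈ z'.asIdeal
    rw [hφ, E.apply_symm_apply, Pi.single_eq_of_ne (Ne.symm hne)]
    exact z'.asIdeal.zero_mem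
  rw [← h] at h1
  change φ i _ ∈ z.asIdeal at h1
  rw [hφ, E.apply_symm_apply, Pi.single_eq_same] at h1
  exact z.2.ne_top ((Ideal.eq_top_iff_one _).2 h1)

/-- Modules over a scheme over a finite product of fields. -/
theorem nonempty_iso_of_pi [Finite ι] {Y : Scheme.{u}} (g : Y ⟶ Spec (CommRingCat.of B))
    {Yi : ι → Scheme.{u}} (j : ∀ i, Yi i ⟶ Y) (gi : ∀ i, Yi i ⟶ Spec (CommRingCat.of K))
    (sq : ∀ i, IsPullback (j i) (gi i) g (Spec.map (CommRingCat.ofHom (φ i)))) (M N : Y.Modules)
    (h : ∀ i, Nonempty ((Scheme.Modules.pullback (j i)).obj M ≅ (Scheme.Modules.pullback (j i)).obj N)) :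
    Nonempty (M ≅ N) := by
  have (i : ι) : IsOpenImmersion (j i) := by
    have := isOpenImmersion_specMap E φ hφ i
    exact MorphismProperty.of_isPullback (P := @IsOpenImmersion) (sq i).flip inferInstance
  refine Glue.nonempty_iso_of_disjoint j (fun x => ?_) (fun i i' hne => ?_) h
  · obtain ⟨i, z, hz⟩ := exists_eq E φ hφ (g x)
    obtain ⟨w, hw, -⟩ := Scheme.exists_preimage_of_isPullback (sq i) x z hz.symm
    exact ⟨i, w, hw⟩
  · rw [eq_bot_iff]
    rintro x ⟨⟨a, ha⟩, ⟨b, hb⟩⟩
    apply hne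
    apply eq_of_comap_eq E φ hφ i i' (gi i a) (gi i' b)
    have h1 : Spec.map (CommRingCat.ofHom (φ i)) (gi i a) = g (j i a) := by
      rw [← Scheme.Hom.comp_apply, ← Scheme.Hom.comp_apply, (sq i).w]
    have h2 : Spec.map (CommRingCat.ofHom (φ i')) (gi i' b) = g (j i' b) := by
      rw [← Scheme.Hom.comp_apply, ← Scheme.Hom.comp_apply, (sq i').w]
    change Spec.map (CommRingCat.ofHom (φ i)) (gi i a) = Spec.map (CommRingCat.ofHom (φ i')) (gi i' b)
    rw [h1, h2]
    exact congrArg g (ha.trans hb.symm)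

end Pi

section

variable {k : Type u} [Field k] {X : Scheme.{u}} (p : X ⟶ Spec (CommRingCat.of k))
  {K : Type u} [Field K] [Algebra k K] {L : Type u} [Field L] [Algebra k L]
  [FiniteDimensional k L] [Algebra.IsSeparable k L] [IsSepClosed K]

theorem nonempty_iso_of_chi (M N : (baseChange p (K ⊗[k] L)).Modules)
    (h : ∀ σ : L →ₐ[k] K, Nonempty ((Scheme.Modules.pullback (bcMap p (chi σ))).obj M ≅
      (Scheme.Modules.pullback (bcMap p (chi σ))).obj N)) : Nonempty (M ≅ N) :=
  nonempty_iso_of_pi (chiEquiv (k := k) (K := K) (L := L)) (fun σ => (chi σ : K ⊗[k] L →+* K))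
    (fun _ _ => rfl) (baseChangeTo p (K ⊗[k] L)) (fun σ => bcMap p (chi σ)) (fun _ => baseChangeTo p K)
    (fun σ => isPullback_bcMap p (chi σ)) M N h

end

end K790.Sep
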