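import Groth.Agent.ASBun.K790.Trace
import Groth.Agent.ASBun.K790.Sep
import Groth.Agent.CohqA.FinSec

/-!
# Galois-invariant indecomposable modules descend up to multiplicity

* `isFP_of_isCoh`;
* `exists_lift`: embeddings of subfields extend to automorphisms of a normal extension;
* `exists_indec_of_inv`: for `K` a separable closure.
-/

set_option autoImplicit false
universe u
open CategoryTheory CategoryTheory.Limits AlgebraicGeometry
open scoped TensorProduct

namespace K790.Invar

open W4c1astiltbs12 W4bk4gw11416 K790.Level K790.SepAlg K790.KS K790.KSch K790.Trace Groth.Agent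

theorem isFP_of_isCoh {X : Scheme.{u}} [IsLocallyNoetherian X] {M : X.Modules} (h : Coh.IsCoh M) :
    CohB1.IsFP M := by
  refine Groth.Agent.CohqA.FinSec.isFP_of_finitePresentation h.1 fun x => ?_
  obtain ⟨U, hU, hx, -⟩ := exists_isAffineOpen_mem_and_subset (U := (⊤ : X.Opens)) (x := x) trivial
  refine ⟨U, hU, hx, ?_⟩
  have : IsNoetherianRing Γ(X, U) := IsLocallyNoetherian.component_noetherian ⟨U, hU⟩
  have := Groth.Agent.CohqA.FinSec.finite_sections hU h.1 h.2
  exact Module.finitePresentation_of_finite _ _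

section

variable {k : Type u} [Field k] {K : Type u} [Field K] [Algebra k K]

/-- Embeddings of intermediate fields extend. -/
theorem exists_lift [Normal k K] (L : IntermediateField k K) (σ : L →ₐ[k] K) :
    ∃ τ : K ≃ₐ[k] K, (τ : K →ₐ[k] K).comp L.val = σ := by
  let φ : K →ₐ[k] K := σ.liftNormal K
  refine ⟨AlgEquiv.ofBijective φ (AlgHom.normal_bijective k K K φ), ?_⟩
  ext x
  exact AlgHom.liftNormal_commutes σ K x

end

variable {k : Type u} [Field k] {X : Scheme.{u}} (p : X ⟶ Spec (CommRingCat.of k))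
  (K : Type u) [Field K] [Algebra k K]

theorem isLocallyNoetherian_bc [LocallyOfFiniteType p] : IsLocallyNoetherian (baseChange p K) := by
  have : LocallyOfFiniteType (baseChangeTo p K) :=
    MorphismProperty.of_isPullback (P := @LocallyOfFiniteType) (isPullback_proj p) inferInstance
  exact LocallyOfFiniteType.isLocallyNoetherian (baseChangeTo p K)

/-- The module `b^* W'` on `X_{K ⊗ L}` when `W'` is a form of `W` and `W` is invariant. -/
theorem nonempty_pull_chi (L : IntermediateField k K) [Normal k K]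
    (W : (baseChange p K).Modules) (W' : (baseChange p L).Modules)
    (e : Nonempty ((Scheme.Modules.pullback (bcMap p L.val)).obj W' ≅ W))
    (hinv : ∀ σ : K ≃ₐ[k] K, Nonempty ((Scheme.Modules.pullback (galAct p K σ)).obj W ≅ W))
    (σ : L →ₐ[k] K) : Nonempty ((Scheme.Modules.pullback (bcMap p σ)).obj W' ≅ W) := by
  obtain ⟨τ, hτ⟩ := exists_lift L σ
  obtain ⟨e⟩ := e
  obtain ⟨e1⟩ := hinv τ
  have h1 : bcMap p σ = galAct p K τ ≫ bcMap p L.val := by
    rw [galAct_eq, ← bcMap_comp, hτ]
  obtain ⟨e2⟩ := pull_congr h1 W'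
  obtain ⟨e3⟩ := pull_comp (galAct p K τ) (bcMap p L.val) W'
  exact ⟨e2 ≪≫ e3.symm ≪≫ (Scheme.Modules.pullback _).mapIso e ≪≫ e1⟩

/-- The invariant indecomposable modules over a separable closure descend up to multiplicity. -/
theorem exists_indec_of_inv [IsProper p] [IsSepClosure k K] (W : (baseChange p K).Modules)
    (hW : FlatMod.IsFinLocFree W) (hWi : Indec W)
    (hinv : ∀ σ : K ≃ₐ[k] K, Nonempty ((Scheme.Modules.pullback (galAct p K σ)).obj W ≅ W)) :
    ∃ (M : X.Modules) (r : ℕ), FlatMod.IsFinLocFree M ∧ Indec M ∧ 0 < r ∧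
      Nonempty (bcMod p K M ≅ pow W r) := by
  have := isLocallyNoetherian_bc p K
  have : IsSepClosed K := IsSepClosure.sep_closed k
  have : CompactSpace X := by
    have := QuasiCompact.compactSpace_of_compactSpace p
    exact this
  have : QuasiSeparatedSpace X := (quasiSeparated_iff_quasiSeparatedSpace p).1 inferInstance
  have hWc := Isotyp.isCoh_of_isFinLocFree hW
  obtain ⟨L, _, W', hW', e⟩ := FiniteLevel.exists_level p K W hWc.1 (isFP_of_isCoh hWc)
  have : Algebra.IsSeparable k L := Algebra.isSeparable_tower_bot_of_isSeparable k L K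
  obtain ⟨e1⟩ : Nonempty
      ((Scheme.Modules.pullback (bcMap p (Algebra.TensorProduct.includeRight : L →ₐ[k] K ⊗[k] L))).obj W' ≅
      (Scheme.Modules.pullback (bcMap p (Algebra.TensorProduct.includeLeft : K →ₐ[k] K ⊗[k] L))).obj W) := by
    refine Sep.nonempty_iso_of_chi p _ _ fun σ => ?_
    obtain ⟨a1⟩ := pull_comp (bcMap p (chi σ))
      (bcMap p (Algebra.TensorProduct.includeRight : L →ₐ[k] K ⊗[k] L)) W'
    obtain ⟨a2⟩ := pull_congr (show bcMap p (chi σ) ≫
      bcMap p (Algebra.TensorProduct.includeRight : L →ₐ[k] K ⊗[k] L) = bcMap p σ by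
        rw [← bcMap_comp, chi_comp_right]) W'
    obtain ⟨a3⟩ := nonempty_pull_chi p K L W W' e hinv σ
    obtain ⟨b1⟩ := pull_comp (bcMap p (chi σ))
      (bcMap p (Algebra.TensorProduct.includeLeft : K →ₐ[k] K ⊗[k] L)) W
    obtain ⟨b2⟩ := pull_congr (show bcMap p (chi σ) ≫
      bcMap p (Algebra.TensorProduct.includeLeft : K →ₐ[k] K ⊗[k] L) = 𝟙 _ by
        rw [← bcMap_comp, chi_comp_left, bcMap_id]) W
    obtain ⟨b3⟩ := pull_id W
    exact ⟨a1 ≪≫ a2 ≪≫ a3 ≪≫ b3.symm ≪≫ b2.symm ≪≫ b1.symm⟩
  exact exists_indec_of_trace p K L W hW hWi W' hW'.1 e1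

end K790.Invar
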