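import Groth.Agent.ASBun.K790.BC

/-!
# Isotypical modules

* `isCoh_of_isInvertible`, `isCoh_of_isFinLocFree`;
* `nonempty_iso_pow_of_summand`: a summand of `W^r`, `W` with local endomorphism ring, is a power of `W`;
* `exists_iso_pow`: a coherent module whose base change is a power of an indecomposable coherent module is a power
  of an indecomposable coherent module.
-/

set_option autoImplicit false
set_option linter.unusedSectionVars false
universe v w u
open CategoryTheory CategoryTheory.Limits AlgebraicGeometry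
open scoped ZeroObject

namespace K790.Isotyp

open K790.KS K790.KSch K790.Ext K790.BC Groth.Agent W4c1astiltbs12 W4bk4gw11416

theorem isFinLocFree_of_isInvertible {X : Scheme.{u}} {L : X.Modules} (hL : PicF.IsInvertible L) :
    FlatMod.IsFinLocFree L := by
  intro x
  obtain ⟨U, hx, ⟨e⟩⟩ := hL x
  exact ⟨U, 1, hx, ⟨e ≪≫ (coproductUniqueIso
    (fun _ : Fin 1 => Coh.structureModule (U : Scheme.{u}))).symm⟩⟩

theorem isCoh_of_isFinLocFree {X : Scheme.{u}} {L : X.Modules} (hL : FlatMod.IsFinLocFree L) :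
    Coh.IsCoh L := PerfA.CohSerre.isCoh_of_isFinLocFree hL

theorem isCoh_of_isInvertible {X : Scheme.{u}} {L : X.Modules} (hL : PicF.IsInvertible L) :
    Coh.IsCoh L := isCoh_of_isFinLocFree (isFinLocFree_of_isInvertible hL)

section abstract

variable {C : Type w} [Category.{v} C] [Preadditive C] [HasZeroObject C] [HasBinaryBiproducts C]
  [HasFiniteCoproducts C]

theorem nonempty_pow_iso (W : C) (r : ℕ) :
    Nonempty ((∐ fun _ : Fin r => W) ≅ sumL (List.replicate r W)) := by
  obtain ⟨e⟩ := nonempty_sigma_iso (fun _ : Fin r => W)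
  rw [List.ofFn_const] at e
  exact ⟨e⟩

theorem cls_replicate (W : C) (r : ℕ) :
    cls (List.replicate r W) = Multiset.replicate r (Quotient.mk (isIsomorphicSetoid C) W) := by
  simp only [cls, List.map_replicate, Multiset.coe_replicate]

/-- A list all of whose members are isomorphic to `W` has sum `W^n`. -/
theorem nonempty_iso_pow_of_forall (W : C) {l : List C} (h : ∀ a ∈ l, Nonempty (a ≅ W)) :
    Nonempty (sumL l ≅ ∐ fun _ : Fin l.length => W) := by
  obtain ⟨e⟩ := nonempty_pow_iso W l.length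
  have h1 : cls l = cls (List.replicate l.length W) := by
    rw [cls_replicate, Multiset.eq_replicate]
    refine ⟨by simp [cls], fun b hb => ?_⟩
    simp only [cls, Multiset.mem_coe, List.mem_map] at hb
    obtain ⟨a, ha, rfl⟩ := hb
    exact Quotient.sound (h a ha)
  obtain ⟨e'⟩ := nonempty_iso_of_cls_eq h1
  exact ⟨e' ≪≫ e.symm⟩

/-- A direct summand of a power of an object with local endomorphism ring. -/
theorem exists_iso_pow_of_summand {A B W : C} {lA lB : List C} (hA : ∀ a ∈ lA, LocalEnd a)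
    (hB : ∀ a ∈ lB, LocalEnd a) (eA : A ≅ sumL lA) (eB : B ≅ sumL lB) (hW : LocalEnd W) {r : ℕ}
    (e : A ⊞ B ≅ ∐ fun _ : Fin r => W) :
    ∃ s : ℕ, (s ≤ r) ∧ (∀ a ∈ lA, Nonempty (a ≅ W)) ∧ Nonempty (A ≅ ∐ fun _ : Fin s => W) := by
  obtain ⟨e1⟩ := nonempty_sumL_append lA lB
  obtain ⟨e2⟩ := nonempty_pow_iso W r
  have h := cls_eq_of_iso (l := lA ++ lB) (l' := List.replicate r W)
    (fun a ha => (List.mem_append.1 ha).elim (hA a) (hB a))
    (fun a ha => by rw [List.eq_of_mem_replicate ha]; exact hW)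
    (e1 ≪≫ (biprod.mapIso eA eB).symm ≪≫ e ≪≫ e2)
  rw [cls_append, cls_replicate] at h
  have h1 : ∀ a ∈ lA, Nonempty (a ≅ W) := by
    intro a ha
    have h2 : Quotient.mk (isIsomorphicSetoid C) a ∈ cls lA + cls lB := by
      rw [Multiset.mem_add]
      left
      simp only [cls, Multiset.mem_coe, List.mem_map]
      exact ⟨a, ha, rfl⟩
    rw [h] at h2
    exact Quotient.exact (Multiset.eq_of_mem_replicate h2)
  have h3 : lA.length ≤ r := by
    have := congrArg Multiset.card h
    simp only [Multiset.card_add, Multiset.card_replicate] at this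
    have h4 : (cls lA).card = lA.length := by simp [cls]
    omega
  obtain ⟨e3⟩ := nonempty_iso_pow_of_forall W h1
  exact ⟨lA.length, h3, h1, ⟨eA ≪≫ e3⟩⟩

end abstract

/-- A retract of an object in an abelian category is a direct summand. -/
theorem exists_iso_biprod_of_retract {X : Scheme.{u}} {F A : X.Modules} (i : A ⟶ F) (q : F ⟶ A)
    (h : i ≫ q = 𝟙 A) : ∃ B : X.Modules, Nonempty (F ≅ A ⊞ B) := by
  have hf' : (𝟙 F - q ≫ i) ≫ (𝟙 F - q ≫ i) = 𝟙 F - q ≫ i := by
    have h1 : (q ≫ i) ≫ (q ≫ i) = q ≫ i := by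
      rw [Category.assoc, ← Category.assoc i, h, Category.id_comp]
    simp only [Preadditive.sub_comp, Preadditive.comp_sub, Category.id_comp, Category.comp_id, h1]
    abel
  obtain ⟨B, j, r, h3, h4⟩ := IsIdempotentComplete.idempotents_split F _ hf'
  exact ⟨B, nonempty_iso_biprod_of_split i q j r h h3 (by rw [h4]; abel)⟩

section field

variable (k : Type u) [Field k] {X : Scheme.{u}} (p : X ⟶ Spec (CommRingCat.of k)) [IsProper p]

include p in
/-- A retract of a power of an indecomposable coherent module is a power. -/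
theorem exists_iso_pow_of_retract {A W : X.Modules} (hA : Coh.IsCoh A) (hW : Coh.IsCoh W) (hWi : Indec W) {r : ℕ}
    (i : A ⟶ pow W r) (q : pow W r ⟶ A) (h : i ≫ q = 𝟙 A) :
    ∃ s : ℕ, (s ≤ r) ∧ Nonempty (A ≅ pow W s) := by
  have := isLocallyNoetherian k p
  obtain ⟨B, ⟨e⟩⟩ := exists_iso_biprod_of_retract i q h
  have hpow : Coh.IsCoh (pow W r) := by
    obtain ⟨e'⟩ := nonempty_pow_iso W r
    exact PerfA.CohSerre.isCoh_of_iso e'.symm (isCoh_sumL k p fun a ha => by
      rw [List.eq_of_mem_replicate ha]; exact hW)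
  have hB : Coh.IsCoh B := isCoh_of_retract hpow (biprod.inr ≫ e.inv) (e.hom ≫ biprod.snd) (by simp)
  obtain ⟨lA, hlA, ⟨eA⟩⟩ := KSch.exists_sumL k p A hA
  obtain ⟨lB, hlB, ⟨eB⟩⟩ := KSch.exists_sumL k p B hB
  obtain ⟨s, hs, -, h2⟩ := exists_iso_pow_of_summand hlA hlB eA eB (KSch.localEnd k p hW hWi) e.symm
  exact ⟨s, hs, h2⟩

variable (K : Type u) [Field K] [Algebra k K]

/-- A coherent module whose base change is a power of an indecomposable coherent module is a power
of an indecomposable coherent module. -/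
theorem exists_iso_pow (E : X.Modules) (hE : Coh.IsCoh E) (hE0 : ¬ IsZero E)
    (L : (baseChange p K).Modules) (hL : Coh.IsCoh L) (hLi : Indec L) (r : ℕ) (e : bcMod p K E ≅ pow L r) :
    ∃ (G : X.Modules) (n : ℕ), Indec G ∧ Nonempty (E ≅ pow G n) ∧
      (∃ (i : G ⟶ E) (q : E ⟶ G), i ≫ q = 𝟙 G) ∧ (∃ s, Nonempty (bcMod p K G ≅ pow L s)) := by
  obtain ⟨l, hl, ⟨e1⟩⟩ := BC.exists_sumL k p E hE
  cases l with
  | nil => exact absurd ((isZero_zero _).of_iso e1) hE0
  | cons G l =>
    have hret : ∀ b ∈ G :: l, ∃ (i : b ⟶ E) (q : E ⟶ b), i ≫ q = 𝟙 b := by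
      intro b hb
      obtain ⟨l', -, ⟨e'⟩⟩ := exists_iso_biprod_of_mem hb
      refine ⟨biprod.inl ≫ (e1 ≪≫ e').inv, (e1 ≪≫ e').hom ≫ biprod.fst, ?_⟩
      rw [Category.assoc, Iso.inv_hom_id_assoc, biprod.inl_fst]
    have hpow : ∀ b ∈ G :: l, ∃ s, Nonempty (bcMod p K b ≅ pow L s) := by
      intro b hb
      obtain ⟨i, q, h⟩ := hret b hb
      obtain ⟨s, -, hs⟩ := exists_iso_pow_of_retract K (baseChangeTo p K)
        (A := bcMod p K b) (FormalA.PullbackQC.isCoh_pullback _ _ (hl b hb).2) hL hLi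
        ((Scheme.Modules.pullback (proj p K)).map i ≫ e.hom)
        (e.inv ≫ (Scheme.Modules.pullback (proj p K)).map q) (by
          rw [Category.assoc, Iso.hom_inv_id_assoc, ← Functor.map_comp, h, CategoryTheory.Functor.map_id])
      exact ⟨s, hs⟩
    have hiso : ∀ b ∈ G :: l, Nonempty (b ≅ G) := by
      intro b hb
      obtain ⟨s, ⟨es⟩⟩ := hpow b hb
      obtain ⟨t, ⟨et⟩⟩ := hpow G (by simp)
      exact nonempty_iso_of_isotypical k p K b G (hl b hb).2 (hl G (by simp)).2
        (indec_of_localEnd (hl b hb).1) (indec_of_localEnd (hl G (by simp)).1) L s t es et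
    obtain ⟨e2⟩ := nonempty_iso_pow_of_forall G hiso
    exact ⟨G, _, indec_of_localEnd (hl G (by simp)).1, ⟨e1 ≪≫ e2⟩, hret G (by simp), hpow G (by simp)⟩

include p in
theorem nonempty_iso_of_pow_iso {E G G' : X.Modules} (hE : Coh.IsCoh E) (hE0 : ¬ IsZero E)
    {n m : ℕ} (hG : Indec G) (hG' : Indec G') (e : E ≅ pow G n) (e' : E ≅ pow G' m) :
    Nonempty (G ≅ G') := by
  obtain ⟨σ, hσ⟩ := KSch.exists_equiv k p hE (Fs := fun _ : Fin n => G) (Gs := fun _ : Fin m => G')
    (fun _ => hG) (fun _ => hG') e e'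
  have hn : 0 < n := by
    rcases Nat.eq_zero_or_pos n with h | h
    · exfalso
      subst h
      apply hE0
      refine IsZero.of_iso ?_ e
      rw [IsZero.iff_id_eq_zero]
      exact Sigma.hom_ext _ _ (fun i => i.elim0)
    · exact h
  exact hσ ⟨0, hn⟩

end field

end K790.Isotyp
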