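import Mathlib.CategoryTheory.Preadditive.Biproducts
import Mathlib.CategoryTheory.Idempotents.Basic
import Mathlib.CategoryTheory.Endomorphism
import Mathlib.RingTheory.LocalRing.Basic
import Mathlib.Data.Multiset.Basic
import Mathlib.Data.Fintype.EquivFin

/-!
# Krull-Schmidt, abstract form (1): uniqueness

Preadditive category with finite biproducts.

* `sumL l`: direct sum of a list of objects;
* `cls l`: the multiset of isomorphism classes of the members of a list;
* `cls_eq_of_iso`: if all members of `l` and `l'` have local endomorphism rings and `sumL l ≅ sumL l'` then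
  `cls l = cls l'`;
* `iso_of_cls_eq`: conversely.
-/

set_option autoImplicit false
set_option linter.unusedSectionVars false
universe v w
open CategoryTheory CategoryTheory.Limits

namespace K790.KS

open scoped ZeroObject

variable {C : Type w} [Category.{v} C] [Preadditive C] [HasZeroObject C] [HasBinaryBiproducts C]

/-- indecomposable objects -/
abbrev Indec (X : C) : Prop :=
  ¬ IsZero X ∧ ∀ A B : C, Nonempty (X ≅ A ⊞ B) → IsZero A ∨ IsZero B

/-- the endomorphism ring is local -/
abbrev LocalEnd (X : C) : Prop := IsLocalRing (End X)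

/-- direct sum of a list -/
noncomputable def sumL : List C → C
  | [] => 0
  | a :: l => a ⊞ sumL l

@[simp] theorem sumL_nil : sumL ([] : List C) = 0 := rfl
@[simp] theorem sumL_cons (a : C) (l : List C) : sumL (a :: l) = (a ⊞ sumL l) := rfl

/-- the multiset of isomorphism classes -/
def cls (l : List C) : Multiset (Quotient (isIsomorphicSetoid C)) :=
  (l.map (fun a => (Quotient.mk (isIsomorphicSetoid C) a)) : List _)

@[simp] theorem cls_nil : cls ([] : List C) = 0 := rfl
@[simp] theorem cls_cons (a : C) (l : List C) :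
    cls (a :: l) = (Quotient.mk (isIsomorphicSetoid C) a) ::ₘ cls l := rfl
theorem cls_append (l l' : List C) : cls (l ++ l') = cls l + cls l' := by
  simp [cls]

theorem cls_perm {l l' : List C} (h : l.Perm l') : cls l = cls l' :=
  Multiset.coe_eq_coe.2 (h.map _)

/-- swap the first two summands -/
@[simps] noncomputable def swap3 (A B D : C) : (A ⊞ (B ⊞ D) : C) ≅ B ⊞ (A ⊞ D) where
  hom := biprod.lift (biprod.snd ≫ biprod.fst) (biprod.lift biprod.fst (biprod.snd ≫ biprod.snd))
  inv := biprod.lift (biprod.snd ≫ biprod.fst) (biprod.lift biprod.fst (biprod.snd ≫ biprod.snd))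
  hom_inv_id := by
    apply biprod.hom_ext
    · simp
    · apply biprod.hom_ext <;> simp
  inv_hom_id := by
    apply biprod.hom_ext
    · simp
    · apply biprod.hom_ext <;> simp

theorem nonempty_sumL_append (l l' : List C) : Nonempty (sumL (l ++ l') ≅ sumL l ⊞ sumL l') := by
  induction l with
  | nil =>
    refine ⟨?_⟩
    have : IsZero (sumL ([] : List C)) := isZero_zero C
    exact { hom := biprod.inr, inv := biprod.snd, hom_inv_id := biprod.inr_snd,
            inv_hom_id := by
              apply biprod.hom_ext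
              · exact this.eq_of_tgt _ _
              · simp }
  | cons a l ih =>
    obtain ⟨e⟩ := ih
    exact ⟨biprod.mapIso (Iso.refl a) e ≪≫ (biprod.associator _ _ _).symm⟩

theorem nonempty_sumL_perm {l l' : List C} (h : l.Perm l') : Nonempty (sumL l ≅ sumL l') := by
  induction h with
  | nil => exact ⟨Iso.refl _⟩
  | cons x _ ih =>
    obtain ⟨e⟩ := ih
    exact ⟨biprod.mapIso (Iso.refl x) e⟩
  | swap x y l => exact ⟨swap3 _ _ _⟩
  | trans _ _ ih₁ ih₂ =>
    obtain ⟨e⟩ := ih₁
    obtain ⟨e'⟩ := ih₂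
    exact ⟨e ≪≫ e'⟩

/-- In a list with a member of a given class, bring that member to the front. -/
theorem exists_perm_cons {l : List C} {a : C} (h : Quotient.mk (isIsomorphicSetoid C) a ∈ cls l) :
    ∃ (b : C) (l' : List C), l.Perm (b :: l') ∧ Nonempty (a ≅ b) := by
  classical
  simp only [cls, Multiset.mem_coe, List.mem_map] at h
  obtain ⟨b, hb, hab⟩ := h
  refine ⟨b, _, List.perm_cons_erase hb, ?_⟩
  have := Quotient.exact hab
  obtain ⟨e⟩ := this
  exact ⟨e.symm⟩

theorem nonempty_iso_of_cls_eq {l l' : List C} (h : cls l = cls l') :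
    Nonempty (sumL l ≅ sumL l') := by
  induction l generalizing l' with
  | nil =>
    have : l' = [] := by
      have h' : cls l' = 0 := h.symm
      simpa [cls] using h'
    subst this
    exact ⟨Iso.refl _⟩
  | cons a l ih =>
    have h1 : Quotient.mk (isIsomorphicSetoid C) a ∈ cls l' := by
      rw [← h, cls_cons]
      exact Multiset.mem_cons_self _ _
    obtain ⟨b, l'', hp, ⟨e⟩⟩ := exists_perm_cons h1
    have h2 : cls l = cls l'' := by
      have h3 := h.trans (cls_perm hp)
      rw [cls_cons, cls_cons] at h3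
      have hab : Quotient.mk (isIsomorphicSetoid C) a = Quotient.mk (isIsomorphicSetoid C) b :=
        Quotient.sound ⟨e⟩
      rw [hab] at h3
      exact (Multiset.cons_inj_right _).1 h3
    obtain ⟨e'⟩ := ih h2
    obtain ⟨e''⟩ := nonempty_sumL_perm hp
    exact ⟨biprod.mapIso e e' ≪≫ e''.symm⟩

section LocalEnd

/-- idempotents in a local ring -/
theorem idem_eq_zero_or_one {R : Type*} [Ring R] [IsLocalRing R] {e : R} (he : e * e = e) :
    e = 0 ∨ e = 1 := by
  rcases IsLocalRing.isUnit_or_isUnit_of_add_one (a := e) (b := 1 - e) (by abel) with h | h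
  · right
    have : e * e = e * 1 := by rw [he, mul_one]
    exact h.mul_left_cancel this
  · left
    have h2 : (1 - e) * e = (1 - e) * 0 := by
      rw [sub_mul, one_mul, he, sub_self, mul_zero]
    exact h.mul_left_cancel h2

theorem not_isZero_of_localEnd {X : C} (h : LocalEnd X) : ¬ IsZero X := by
  intro hz
  have := h.toNontrivial
  obtain ⟨x, y, hxy⟩ := this
  exact hxy (hz.eq_of_src _ _)

theorem localEnd_of_ringEquiv {R S : Type*} [Ring R] [Ring S] (e : R ≃+* S) (h : IsLocalRing R) :
    IsLocalRing S := by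
  have : Nontrivial S := e.injective.nontrivial
  refine IsLocalRing.of_is_unit_or_is_unit_of_add_one (fun {a b} hab => ?_)
  have h1 : e.symm a + e.symm b = 1 := by rw [← map_add, hab, map_one]
  rcases IsLocalRing.isUnit_or_isUnit_of_add_one h1 with h2 | h2
  · left; simpa using h2.map e
  · right; simpa using h2.map e

/-- Transport of endomorphisms along an isomorphism. -/
def endEquiv {X Y : C} (e : X ≅ Y) : End X ≃+* End Y where
  toFun f := e.inv ≫ (show X ⟶ X from f) ≫ e.hom
  invFun f := e.hom ≫ (show Y ⟶ Y from f) ≫ e.inv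
  left_inv f := by simp
  right_inv f := by simp
  map_mul' f g := by
    change e.inv ≫ ((show X ⟶ X from g) ≫ (show X ⟶ X from f)) ≫ e.hom =
      (e.inv ≫ (show X ⟶ X from g) ≫ e.hom) ≫ (e.inv ≫ (show X ⟶ X from f) ≫ e.hom)
    simp
  map_add' f g := by
    change e.inv ≫ ((show X ⟶ X from f) + (show X ⟶ X from g)) ≫ e.hom = _
    simp only [Preadditive.add_comp, Preadditive.comp_add]

theorem localEnd_of_iso {X Y : C} (e : X ≅ Y) (h : LocalEnd X) : LocalEnd Y :=
  localEnd_of_ringEquiv (endEquiv e) h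

/-- an indecomposable object with local endomorphisms: `a ⟶ b ⟶ a` unit implies iso -/
theorem isIso_of_comp_isIso {a b : C} (ha : LocalEnd a) (hb : LocalEnd b) (α : a ⟶ b) (β : b ⟶ a)
    (h : IsIso (α ≫ β)) : IsIso α := by
  let u := α ≫ β
  have hu : IsIso u := h
  let γ : b ⟶ a := β ≫ inv u
  have h1 : α ≫ γ = 𝟙 a := by
    simp only [γ, ← Category.assoc]
    exact IsIso.hom_inv_id u
  have h2 : (show End b from γ ≫ α) * (show End b from γ ≫ α) = (show End b from γ ≫ α) := by
    change (γ ≫ α) ≫ (γ ≫ α) = γ ≫ α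
    rw [Category.assoc, ← Category.assoc α, h1, Category.id_comp]
  rcases idem_eq_zero_or_one h2 with h3 | h3
  · exfalso
    apply not_isZero_of_localEnd ha
    have h4 : γ ≫ α = 0 := h3
    have h5 : 𝟙 a = 0 := by
      calc 𝟙 a = (α ≫ γ) ≫ (α ≫ γ) := by rw [h1, Category.id_comp]
        _ = α ≫ (γ ≫ α) ≫ γ := by simp only [Category.assoc]
        _ = 0 := by rw [h4]; simp
    exact (IsZero.iff_id_eq_zero a).2 h5
  · exact ⟨γ, h1, h3⟩

end LocalEnd

theorem isUnit_end_iff {X : C} (f : End X) : IsUnit f ↔ IsIso (show X ⟶ X from f) :=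
  isUnit_iff_isIso f

/-- Exchange: an object with local endomorphism ring which is a summand (up to a unit) of a
direct sum is so through one of the factors. -/
theorem exists_exchange {a : C} (ha : LocalEnd a) (l : List C) (i : a ⟶ sumL l) (p : sumL l ⟶ a)
    (h : IsIso (i ≫ p)) :
    ∃ (b : C) (l' : List C) (φ : sumL l ≅ b ⊞ sumL l'), l.Perm (b :: l') ∧
      IsIso ((i ≫ φ.hom ≫ biprod.fst) ≫ (biprod.inl ≫ φ.inv ≫ p)) := by
  induction l with
  | nil =>
    exfalso
    apply not_isZero_of_localEnd ha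
    have h0 : i ≫ p = 0 := by
      have : i = 0 := (isZero_zero C).eq_of_tgt _ _
      rw [this, zero_comp]
    rw [IsZero.iff_id_eq_zero]
    have : IsIso (0 : a ⟶ a) := by rw [← h0]; exact h
    calc 𝟙 a = (0 : a ⟶ a) ≫ inv (0 : a ⟶ a) := (IsIso.hom_inv_id _).symm
      _ = 0 := zero_comp
  | cons b l ih =>
    change a ⟶ b ⊞ sumL l at i
    change b ⊞ sumL l ⟶ a at p
    have hsum : i ≫ p = (i ≫ biprod.fst) ≫ (biprod.inl ≫ p) + (i ≫ biprod.snd) ≫ (biprod.inr ≫ p) := by
      calc i ≫ p = i ≫ (biprod.fst ≫ biprod.inl + biprod.snd ≫ biprod.inr) ≫ p := by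
            rw [biprod.total, Category.id_comp]
        _ = _ := by simp only [Preadditive.comp_add, Preadditive.add_comp, Category.assoc]
    have hu : IsUnit (show End a from i ≫ p) := (isUnit_end_iff _).2 h
    have h1 : IsUnit (show End a from (i ≫ biprod.fst) ≫ (biprod.inl ≫ p)) ∨
        IsUnit (show End a from (i ≫ biprod.snd) ≫ (biprod.inr ≫ p)) := by
      obtain ⟨u, hu⟩ := hu
      have h2 : (show End a from (i ≫ biprod.fst) ≫ (biprod.inl ≫ p)) * (↑u⁻¹ : End a) +
          (show End a from (i ≫ biprod.snd) ≫ (biprod.inr ≫ p)) * (↑u⁻¹ : End a) = 1 := by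
        rw [← add_mul]
        have : (show End a from (i ≫ biprod.fst) ≫ (biprod.inl ≫ p)) +
            (show End a from (i ≫ biprod.snd) ≫ (biprod.inr ≫ p)) = ↑u := by
          rw [hu]; exact hsum.symm
        rw [this, Units.mul_inv]
      rcases IsLocalRing.isUnit_or_isUnit_of_add_one h2 with h3 | h3
      · left; exact (Units.isUnit_mul_units _ _).1 h3
      · right; exact (Units.isUnit_mul_units _ _).1 h3
    rcases h1 with h1 | h1
    · refine ⟨b, l, Iso.refl (b ⊞ sumL l), List.Perm.refl _, ?_⟩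
      have h2 := (isUnit_end_iff _).1 h1
      change IsIso ((i ≫ 𝟙 (b ⊞ sumL l) ≫ biprod.fst) ≫ biprod.inl ≫ 𝟙 (b ⊞ sumL l) ≫ p)
      rw [Category.id_comp, Category.id_comp]
      exact h2
    · obtain ⟨b', l', φ, hp, hφ⟩ := ih _ _ ((isUnit_end_iff _).1 h1)
      let ψ : (b ⊞ sumL l) ≅ b' ⊞ (b ⊞ sumL l') :=
        biprod.mapIso (Iso.refl b) φ ≪≫ swap3 b b' (sumL l')
      refine ⟨b', b :: l', ψ, (hp.cons b).trans (List.Perm.swap _ _ _), ?_⟩
      change IsIso ((i ≫ ψ.hom ≫ biprod.fst) ≫ biprod.inl ≫ ψ.inv ≫ p)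
      have h2 : ψ.hom ≫ biprod.fst = biprod.snd ≫ φ.hom ≫ biprod.fst := by
        simp [ψ]
      have h3 : biprod.inl ≫ ψ.inv = biprod.inl ≫ φ.inv ≫ biprod.inr := by
        have h5 : biprod.inl ≫ biprod.lift (biprod.fst : b ⊞ sumL l' ⟶ b) biprod.snd = biprod.inl := by
          apply biprod.hom_ext <;> simp
        have h6 : biprod.inl ≫ (swap3 b b' (sumL l')).inv = (biprod.inl ≫ biprod.inr : b' ⟶ _) := by
          apply biprod.hom_ext
          · simp
          · apply biprod.hom_ext <;> simp
        have h7 : ψ.inv = (swap3 b b' (sumL l')).inv ≫ biprod.map (𝟙 b) φ.inv := rfl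
        rw [h7, ← Category.assoc, h6]
        apply biprod.hom_ext <;> simp
      have h4 : (i ≫ ψ.hom ≫ biprod.fst) ≫ (biprod.inl ≫ ψ.inv ≫ p) =
          ((i ≫ biprod.snd) ≫ φ.hom ≫ biprod.fst) ≫ (biprod.inl ≫ φ.inv ≫ (biprod.inr ≫ p)) := by
        rw [h2, ← Category.assoc biprod.inl _ p, h3]
        simp only [Category.assoc]
      exact h4 ▸ hφ

/-- Krull-Schmidt uniqueness. -/
theorem cls_eq_of_iso {l l' : List C} (hl : ∀ a ∈ l, LocalEnd a) (hl' : ∀ a ∈ l', LocalEnd a)
    (e : sumL l ≅ sumL l') : cls l = cls l' := by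
  induction l generalizing l' with
  | nil =>
    cases l' with
    | nil => rfl
    | cons b l' =>
      exfalso
      apply not_isZero_of_localEnd (hl' b (by simp))
      rw [IsZero.iff_id_eq_zero]
      change (0 : C) ≅ b ⊞ sumL l' at e
      have h1 : (biprod.inl ≫ e.inv : b ⟶ _) = 0 := (isZero_zero C).eq_of_tgt _ _
      calc 𝟙 b = (biprod.inl ≫ e.inv) ≫ e.hom ≫ biprod.fst := by
            simp only [Category.assoc, Iso.inv_hom_id_assoc, biprod.inl_fst]
        _ = 0 := by rw [h1, zero_comp]
  | cons a l ih =>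
    change a ⊞ sumL l ≅ sumL l' at e
    obtain ⟨b, l'', φ, hp, hφ⟩ := exists_exchange (hl a (by simp)) l'
      (biprod.inl ≫ e.hom) (e.inv ≫ biprod.fst) (by
        simp only [Category.assoc, Iso.hom_inv_id_assoc, biprod.inl_fst]
        infer_instance)
    have hb : LocalEnd b := hl' b (hp.symm.subset (by simp))
    have hiso : IsIso ((biprod.inl ≫ e.hom) ≫ φ.hom ≫ biprod.fst) :=
      isIso_of_comp_isIso (hl a (by simp)) hb _ _ hφ
    have hiso' : IsIso (biprod.inl ≫ (e ≪≫ φ).hom ≫ biprod.fst) := by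
      simpa using hiso
    have e' : sumL l ≅ sumL l'' := Biprod.isoElim (e ≪≫ φ)
    have h2 := ih (fun x hx => hl x (by simp [hx]))
      (fun x hx => hl' x (hp.symm.subset (by simp [hx]))) e'
    rw [cls_perm hp, cls_cons, cls_cons, h2]
    congr 1
    exact Quotient.sound ⟨@asIso _ _ _ _ _ hiso⟩

end K790.KS
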