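import Groth.Agent.ASBun.K790.KS
import Mathlib.CategoryTheory.Linear.Basic
import Mathlib.CategoryTheory.Limits.Constructions.FiniteProductsOfBinaryProducts
import Mathlib.RingTheory.Artinian.Module
import Mathlib.LinearAlgebra.FiniteDimensional.Lemmas
import Mathlib.LinearAlgebra.Dimension.Constructions
import Mathlib.RingTheory.Nilpotent.Basic

/-!
# Krull-Schmidt, abstract form (2): existence, coproducts over `Fin n`

* `isLocalRing_of_idem`: a nonzero finite-dimensional algebra whose only idempotents are 0 and 1 is local;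
* `localEnd_of_indec`: Hom-finite, split idempotents: the endomorphism ring of an indecomposable object is local;
* `exists_sumL`: existence of decompositions;
* `nonempty_sigma_iso`: `∐ F ≅ sumL (List.ofFn F)`;
* `exists_equiv_of_iso`: uniqueness for coproducts over `Fin n`;
* `iso_of_biprod_iso`: cancellation.
-/

set_option autoImplicit false
set_option linter.unusedSectionVars false
universe v w
open CategoryTheory CategoryTheory.Limits
open scoped ZeroObject

namespace K790.KS

section Algebra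

variable {k R : Type*} [Field k] [Ring R] [Algebra k R] [Module.Finite k R]

variable (k) in
include k in
theorem isUnit_of_mul_eq_one_fd {a b : R} (h : a * b = 1) : IsUnit a := by
  have h1 : Function.Surjective (LinearMap.mulLeft k a) := fun x => ⟨b * x, by
    rw [LinearMap.mulLeft_apply, ← mul_assoc, h, one_mul]⟩
  have h2 : Function.Injective (LinearMap.mulLeft k a) :=
    LinearMap.injective_iff_surjective.2 h1
  have h3 : b * a = 1 := by
    apply h2
    simp only [LinearMap.mulLeft_apply]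
    rw [← mul_assoc, h, one_mul, mul_one]
  exact ⟨⟨a, b, h, h3⟩, rfl⟩

variable (k) in
include k in
theorem isUnit_or_isNilpotent_of_idem (h : ∀ e : R, e * e = e → e = 0 ∨ e = 1) (a : R) :
    IsUnit a ∨ IsNilpotent a := by
  obtain ⟨n, hn⟩ := (LinearMap.eventually_isCompl_ker_pow_range_pow (LinearMap.mulLeft k a)).exists_forall_of_atTop
  have h0 := hn (n + 1) (Nat.le_succ n)
  have hpow : ∀ m, (LinearMap.mulLeft k a) ^ m = LinearMap.mulLeft k (a ^ m) := fun m => by
    rw [LinearMap.pow_mulLeft]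
  rw [hpow] at h0
  set b := a ^ (n + 1) with hb
  have htop := h0.sup_eq_top
  have hbot := h0.inf_eq_bot
  have h1 : (1 : R) ∈ LinearMap.ker (LinearMap.mulLeft k b) ⊔ LinearMap.range (LinearMap.mulLeft k b) := by
    rw [htop]; trivial
  obtain ⟨x, hx, z, ⟨y, rfl⟩, hxz⟩ := Submodule.mem_sup.1 h1
  simp only [LinearMap.mem_ker, LinearMap.mulLeft_apply] at hx hxz
  have hx1 : x = 1 - b * y := by rw [← hxz]; abel
  have h2 : x * b = 0 := by
    have h3 : x * b ∈ LinearMap.ker (LinearMap.mulLeft k b) ⊓ LinearMap.range (LinearMap.mulLeft k b) := by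
      refine ⟨?_, ⟨1 - y * b, ?_⟩⟩
      · simp only [SetLike.mem_coe, LinearMap.mem_ker, LinearMap.mulLeft_apply]
        rw [← mul_assoc, hx, zero_mul]
      · simp only [LinearMap.mulLeft_apply]
        rw [hx1]
        simp only [mul_sub, sub_mul, mul_one, one_mul, mul_assoc]
    rw [hbot] at h3
    simpa using h3
  have h4 : (b * y) * b = b := by
    have : x * b = b - (b * y) * b := by rw [hx1]; simp only [mul_sub, sub_mul, mul_one, one_mul, mul_assoc]
    rw [h2] at this
    exact (sub_eq_zero.1 this.symm).symm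
  have h5 : (b * y) * (b * y) = b * y := by
    rw [← mul_assoc, h4]
  rcases h _ h5 with h6 | h6
  · right
    refine ⟨n + 1, ?_⟩
    rw [← hb, ← h4, h6, zero_mul]
  · left
    have h7 : IsUnit b := isUnit_of_mul_eq_one_fd k h6
    rw [hb] at h7
    exact (isUnit_pow_iff (Nat.succ_ne_zero n)).1 h7

variable (k) in
include k in
theorem isLocalRing_of_idem [Nontrivial R] (h : ∀ e : R, e * e = e → e = 0 ∨ e = 1) :
    IsLocalRing R := by
  refine IsLocalRing.of_is_unit_or_is_unit_of_add_one (fun {a b} hab => ?_)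
  rcases isUnit_or_isNilpotent_of_idem k h a with h1 | h1
  · exact Or.inl h1
  · right
    have : b = 1 - a := by rw [← hab]; abel
    rw [this]
    exact IsNilpotent.isUnit_one_sub h1

end Algebra

variable {C : Type w} [Category.{v} C] [Preadditive C] [HasZeroObject C] [HasBinaryBiproducts C]

theorem indec_of_localEnd {X : C} (h : LocalEnd X) : Indec X := by
  refine ⟨not_isZero_of_localEnd h, ?_⟩
  rintro A B ⟨e⟩
  have hi : LocalEnd (A ⊞ B) := localEnd_of_iso e h
  let p : End (A ⊞ B) := (biprod.fst ≫ biprod.inl : A ⊞ B ⟶ A ⊞ B)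
  have hp : p * p = p := by
    change (biprod.fst ≫ biprod.inl) ≫ (biprod.fst ≫ biprod.inl) = (biprod.fst ≫ biprod.inl : A ⊞ B ⟶ A ⊞ B)
    simp
  rcases idem_eq_zero_or_one hp with h1 | h1
  · left
    rw [IsZero.iff_id_eq_zero]
    have h1' : (biprod.fst ≫ biprod.inl : A ⊞ B ⟶ A ⊞ B) = 0 := h1
    calc 𝟙 A = biprod.inl ≫ (biprod.fst ≫ biprod.inl) ≫ (biprod.fst : A ⊞ B ⟶ A) := by simp
      _ = 0 := by rw [h1']; simp
  · right
    rw [IsZero.iff_id_eq_zero]
    have h1' : (biprod.fst ≫ biprod.inl : A ⊞ B ⟶ A ⊞ B) = 𝟙 _ := h1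
    calc 𝟙 B = biprod.inr ≫ (𝟙 (A ⊞ B)) ≫ (biprod.snd : A ⊞ B ⟶ B) := by simp
      _ = 0 := by rw [← h1']; simp

theorem indec_of_iso {X Y : C} (e : X ≅ Y) (h : Indec X) : Indec Y :=
  ⟨fun hz => h.1 (hz.of_iso e), fun A B ⟨e'⟩ => h.2 A B ⟨e ≪≫ e'⟩⟩

section Split

/-- A split idempotent gives a biproduct decomposition. -/
theorem nonempty_iso_biprod_of_split {X A B : C} (i : A ⟶ X) (p : X ⟶ A) (j : B ⟶ X) (q : X ⟶ B)
    (h1 : i ≫ p = 𝟙 A) (h2 : j ≫ q = 𝟙 B) (h3 : p ≫ i + q ≫ j = 𝟙 X) : Nonempty (X ≅ A ⊞ B) := by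
  have h4 : i ≫ q = 0 := by
    have h5 : i ≫ (p ≫ i + q ≫ j) = i := by rw [h3, Category.comp_id]
    have h6 : i ≫ q ≫ j = 0 := by
      rw [Preadditive.comp_add, ← Category.assoc, h1, Category.id_comp] at h5
      exact left_eq_add.1 h5.symm
    calc i ≫ q = (i ≫ q ≫ j) ≫ q := by simp only [Category.assoc, h2, Category.comp_id]
      _ = 0 := by rw [h6, zero_comp]
  have h7 : j ≫ p = 0 := by
    have h5 : j ≫ (p ≫ i + q ≫ j) = j := by rw [h3, Category.comp_id]
    have h6 : j ≫ p ≫ i = 0 := by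
      rw [Preadditive.comp_add, ← Category.assoc j q, h2, Category.id_comp] at h5
      exact right_eq_add.1 h5.symm
    calc j ≫ p = (j ≫ p ≫ i) ≫ p := by simp only [Category.assoc, h1, Category.comp_id]
      _ = 0 := by rw [h6, zero_comp]
  exact ⟨{ hom := biprod.lift p q
           inv := biprod.desc i j
           hom_inv_id := by rw [biprod.lift_desc, h3]
           inv_hom_id := by
             apply biprod.hom_ext'
             · apply biprod.hom_ext <;> simp [h1, h4]
             · apply biprod.hom_ext <;> simp [h2, h7] }⟩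

variable [IsIdempotentComplete C]

/-- In an idempotent complete category the endomorphism ring of an indecomposable object has no
nontrivial idempotents. -/
theorem idem_of_indec {X : C} (h : Indec X) (e : End X) (he : e * e = e) : e = 0 ∨ e = 1 := by
  let e' : X ⟶ X := e
  have he' : e' ≫ e' = e' := he
  have hf' : (𝟙 X - e') ≫ (𝟙 X - e') = 𝟙 X - e' := by
    simp only [Preadditive.sub_comp, Preadditive.comp_sub, Category.id_comp, Category.comp_id, he']
    abel
  obtain ⟨A, i, p, h1, h2⟩ := IsIdempotentComplete.idempotents_split X e' he'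
  obtain ⟨B, j, q, h3, h4⟩ := IsIdempotentComplete.idempotents_split X _ hf'
  have h5 := nonempty_iso_biprod_of_split i p j q h1 h3 (by rw [h2, h4]; abel)
  rcases h.2 A B h5 with h6 | h6
  · left
    change e' = 0
    rw [← h2, h6.eq_of_src i 0, comp_zero]
  · right
    have h7 : 𝟙 X - e' = 0 := by rw [← h4, h6.eq_of_src j 0, comp_zero]
    exact (sub_eq_zero.1 h7).symm

end Split

section Linear

variable (k : Type*) [Field k] [Linear k C] [IsIdempotentComplete C]

theorem localEnd_of_indec {X : C} [Module.Finite k (X ⟶ X)] (h : Indec X) : LocalEnd X := by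
  have : Module.Finite k (End X) := inferInstanceAs (Module.Finite k (X ⟶ X))
  have : Nontrivial (End X) := by
    refine ⟨⟨0, 1, fun h0 => h.1 ?_⟩⟩
    rw [IsZero.iff_id_eq_zero]
    exact h0.symm
  exact isLocalRing_of_idem k (idem_of_indec h)

theorem finite_of_summand {X Y A : C} (i : A ⟶ X) (p : X ⟶ A) (h : i ≫ p = 𝟙 A) {B : C}
    (j : B ⟶ Y) (q : Y ⟶ B) (h' : j ≫ q = 𝟙 B) [Module.Finite k (X ⟶ Y)] :
    Module.Finite k (A ⟶ B) := by
  let L : (X ⟶ Y) →ₗ[k] (A ⟶ B) :=
    { toFun := fun f => i ≫ f ≫ q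
      map_add' := fun f g => by simp
      map_smul' := fun c f => by simp }
  refine Module.Finite.of_surjective L (fun f => ⟨p ≫ f ≫ j, ?_⟩)
  change i ≫ (p ≫ f ≫ j) ≫ q = f
  simp only [Category.assoc, h', Category.comp_id]
  rw [← Category.assoc, h, Category.id_comp]

theorem finrank_biprod (A B : C) [Module.Finite k ((A ⊞ B : C) ⟶ A ⊞ B)] :
    Module.finrank k (A ⟶ A) + Module.finrank k (B ⟶ B) ≤ Module.finrank k ((A ⊞ B : C) ⟶ A ⊞ B) := by
  have h1 : Module.Finite k (A ⟶ A) :=
    finite_of_summand k (biprod.inl : A ⟶ A ⊞ B) biprod.fst (by simp)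
      (biprod.inl : A ⟶ A ⊞ B) biprod.fst (by simp)
  have h2 : Module.Finite k (B ⟶ B) :=
    finite_of_summand k (biprod.inr : B ⟶ A ⊞ B) biprod.snd (by simp)
      (biprod.inr : B ⟶ A ⊞ B) biprod.snd (by simp)
  let L : ((A ⟶ A) × (B ⟶ B)) →ₗ[k] ((A ⊞ B : C) ⟶ A ⊞ B) :=
    { toFun := fun f => biprod.map f.1 f.2
      map_add' := fun f g => by
        apply biprod.hom_ext <;> simp
      map_smul' := fun c f => by
        apply biprod.hom_ext <;> simp }
  rw [← Module.finrank_prod]
  refine LinearMap.finrank_le_finrank_of_injective (f := L) ?_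
  intro f g hfg
  have hfg' : biprod.map f.1 f.2 = biprod.map g.1 g.2 := hfg
  ext
  · calc f.1 = biprod.inl ≫ biprod.map f.1 f.2 ≫ biprod.fst := by simp
      _ = g.1 := by rw [hfg']; simp
  · calc f.2 = biprod.inr ≫ biprod.map f.1 f.2 ≫ biprod.snd := by simp
      _ = g.2 := by rw [hfg']; simp

theorem finrank_pos_of_not_isZero {X : C} [Module.Finite k (X ⟶ X)] (h : ¬ IsZero X) :
    0 < Module.finrank k (X ⟶ X) := by
  have : Nontrivial (X ⟶ X) := ⟨⟨𝟙 X, 0, fun h0 => h ((IsZero.iff_id_eq_zero X).2 h0)⟩⟩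
  exact Module.finrank_pos

/-- Existence of decompositions. -/
theorem exists_sumL (X : C) [Module.Finite k (X ⟶ X)] :
    ∃ l : List C, (∀ a ∈ l, LocalEnd a) ∧ Nonempty (X ≅ sumL l) := by
  induction hn : Module.finrank k (X ⟶ X) using Nat.strong_induction_on generalizing X with
  | _ n ih =>
    by_cases hX : IsZero X
    · exact ⟨[], by simp, ⟨hX.iso (isZero_zero C)⟩⟩
    by_cases hi : Indec X
    · refine ⟨[X], ?_, ⟨?_⟩⟩
      · intro a ha
        rw [List.mem_singleton] at ha
        subst ha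
        exact localEnd_of_indec k hi
      · exact { hom := biprod.inl, inv := biprod.fst
                hom_inv_id := biprod.inl_fst
                inv_hom_id := by
                  apply biprod.hom_ext
                  · simp
                  · exact (isZero_zero C).eq_of_tgt _ _ }
    · simp only [Indec, hX, not_false_eq_true, true_and, not_forall, not_or] at hi
      obtain ⟨A, B, ⟨e⟩, hA, hB⟩ := hi
      have hAB : Module.Finite k ((A ⊞ B : C) ⟶ A ⊞ B) :=
        finite_of_summand k e.inv e.hom (by simp) e.inv e.hom (by simp)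
      have h1 : Module.Finite k (A ⟶ A) :=
        finite_of_summand k (biprod.inl : A ⟶ A ⊞ B) biprod.fst (by simp)
          (biprod.inl : A ⟶ A ⊞ B) biprod.fst (by simp)
      have h2 : Module.Finite k (B ⟶ B) :=
        finite_of_summand k (biprod.inr : B ⟶ A ⊞ B) biprod.snd (by simp)
          (biprod.inr : B ⟶ A ⊞ B) biprod.snd (by simp)
      have h3 := finrank_biprod k A B
      have h4 := finrank_pos_of_not_isZero k hA
      have h5 := finrank_pos_of_not_isZero k hB
      have h6 : Module.finrank k ((A ⊞ B : C) ⟶ A ⊞ B) = n := by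
        rw [← hn]
        refine LinearEquiv.finrank_eq ?_
        exact { toFun := fun f => e.hom ≫ f ≫ e.inv
                invFun := fun f => e.inv ≫ f ≫ e.hom
                map_add' := fun f g => by simp
                map_smul' := fun c f => by simp
                left_inv := fun f => by simp
                right_inv := fun f => by simp }
      obtain ⟨l, hl, ⟨el⟩⟩ := ih _ (by omega) A rfl
      obtain ⟨l', hl', ⟨el'⟩⟩ := ih _ (by omega) B rfl
      obtain ⟨e''⟩ := nonempty_sumL_append l l'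
      refine ⟨l ++ l', fun a ha => ?_, ⟨e ≪≫ biprod.mapIso el el' ≪≫ e''.symm⟩⟩
      rcases List.mem_append.1 ha with h | h
      · exact hl a h
      · exact hl' a h

end Linear

/-- a member of the list is a summand -/
theorem exists_iso_biprod_of_mem {l : List C} {a : C} (h : a ∈ l) :
    ∃ l' : List C, l.Perm (a :: l') ∧ Nonempty (sumL l ≅ a ⊞ sumL l') := by
  classical
  obtain ⟨e⟩ := nonempty_sumL_perm (List.perm_cons_erase h)
  exact ⟨_, List.perm_cons_erase h, ⟨e⟩⟩

/-- Cancellation. -/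
theorem nonempty_iso_of_biprod_iso {T A B : C} {lT lA lB : List C} (hT : ∀ a ∈ lT, LocalEnd a)
    (hA : ∀ a ∈ lA, LocalEnd a) (hB : ∀ a ∈ lB, LocalEnd a) (eT : T ≅ sumL lT) (eA : A ≅ sumL lA)
    (eB : B ≅ sumL lB) (e : T ⊞ A ≅ T ⊞ B) : Nonempty (A ≅ B) := by
  obtain ⟨e1⟩ := nonempty_sumL_append lT lA
  obtain ⟨e2⟩ := nonempty_sumL_append lT lB
  have h := cls_eq_of_iso (l := lT ++ lA) (l' := lT ++ lB)
    (fun a ha => (List.mem_append.1 ha).elim (hT a) (hA a))
    (fun a ha => (List.mem_append.1 ha).elim (hT a) (hB a))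
    (e1 ≪≫ (biprod.mapIso eT eA).symm ≪≫ e ≪≫ biprod.mapIso eT eB ≪≫ e2.symm)
  rw [cls_append, cls_append, add_right_inj] at h
  obtain ⟨e3⟩ := nonempty_iso_of_cls_eq h
  exact ⟨eA ≪≫ e3 ≪≫ eB.symm⟩

section Coproducts

variable [HasFiniteCoproducts C]

theorem nonempty_sigma_iso {n : ℕ} (F : Fin n → C) : Nonempty ((∐ F) ≅ sumL (List.ofFn F)) := by
  induction n with
  | zero =>
    refine ⟨IsZero.iso ?_ (by rw [List.ofFn_zero]; exact isZero_zero C)⟩
    rw [IsZero.iff_id_eq_zero]
    apply Sigma.hom_ext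
    intro i
    exact i.elim0
  | succ n ih =>
    obtain ⟨e⟩ := ih (fun i => F i.succ)
    rw [List.ofFn_succ]
    have h1 : IsColimit (Cofan.mk (∐ fun i : Fin n => F i.succ) (Sigma.ι _)) := coproductIsCoproduct _
    have h2 := extendCofanIsColimit F h1
      (c₂ := BinaryCofan.mk (biprod.inl : F 0 ⟶ F 0 ⊞ (∐ fun i : Fin n => F i.succ)) biprod.inr)
      (BinaryBiproduct.isColimit _ _)
    have h3 : (∐ F) ≅ F 0 ⊞ (∐ fun i : Fin n => F i.succ) :=
      (coproductIsCoproduct F).coconePointUniqueUpToIso h2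
    exact ⟨h3 ≪≫ biprod.mapIso (Iso.refl _) e⟩

theorem cls_ofFn_count [DecidableEq (Quotient (isIsomorphicSetoid C))] {n : ℕ} (F : Fin n → C)
    (q : Quotient (isIsomorphicSetoid C)) :
    (cls (List.ofFn F)).count q =
      Fintype.card {i : Fin n // Quotient.mk (isIsomorphicSetoid C) (F i) = q} := by
  have h : cls (List.ofFn F) =
      (Finset.univ : Finset (Fin n)).val.map (fun i => Quotient.mk (isIsomorphicSetoid C) (F i)) := by
    rw [cls, List.map_ofFn]
    have : (List.ofFn (fun i => Quotient.mk (isIsomorphicSetoid C) (F i)) : Multiset _) =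
      (Finset.univ : Finset (Fin n)).val.map (fun i => Quotient.mk (isIsomorphicSetoid C) (F i)) := by
      rw [List.ofFn_eq_map]
      rfl
    exact this
  rw [h, Multiset.count_map, Fintype.card_subtype]
  simp only [eq_comm]
  rfl

/-- Krull-Schmidt uniqueness for coproducts over `Fin n`. -/
theorem exists_equiv_of_iso {n m : ℕ} {F : Fin n → C} {G : Fin m → C} (hF : ∀ i, LocalEnd (F i))
    (hG : ∀ i, LocalEnd (G i)) (e : (∐ F) ≅ ∐ G) : ∃ σ : Fin n ≃ Fin m, ∀ i, Nonempty (F i ≅ G (σ i)) := by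
  classical
  obtain ⟨e1⟩ := nonempty_sigma_iso F
  obtain ⟨e2⟩ := nonempty_sigma_iso G
  have h := cls_eq_of_iso (l := List.ofFn F) (l' := List.ofFn G)
    (fun a ha => by obtain ⟨i, rfl⟩ := (List.mem_ofFn' _ _).1 ha; exact hF i)
    (fun a ha => by obtain ⟨i, rfl⟩ := (List.mem_ofFn' _ _).1 ha; exact hG i) (e1.symm ≪≫ e ≪≫ e2)
  have hcard : ∀ q, Nonempty ({i : Fin n // Quotient.mk (isIsomorphicSetoid C) (F i) = q} ≃
      {i : Fin m // Quotient.mk (isIsomorphicSetoid C) (G i) = q}) := fun q => by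
    rw [← Fintype.card_eq, ← cls_ofFn_count, ← cls_ofFn_count, h]
  let f : Fin n → Quotient (isIsomorphicSetoid C) := fun i => Quotient.mk _ (F i)
  let g : Fin m → Quotient (isIsomorphicSetoid C) := fun i => Quotient.mk _ (G i)
  let σ : Fin n ≃ Fin m := (Equiv.sigmaFiberEquiv f).symm.trans
    ((Equiv.sigmaCongrRight fun q => (hcard q).some).trans (Equiv.sigmaFiberEquiv g))
  refine ⟨σ, fun i => ?_⟩
  have h3 : g (σ i) = f i := by
    simp only [σ, Equiv.trans_apply]
    exact ((hcard (f i)).some ⟨i, rfl⟩).2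
  exact (Quotient.exact h3.symm)

end Coproducts

end K790.KS
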