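import Groth.Agent.ASBun.K790.KS2
import Groth.Agent.ASBun.K792.HomFin
import Mathlib.CategoryTheory.Idempotents.Basic

/-!
# Krull-Schmidt for coherent modules on a proper scheme over a field

* `localEnd`: an indecomposable coherent module has a local endomorphism ring;
* `exists_decomp`, `exists_equiv`.
-/

set_option autoImplicit false
set_option linter.unusedSectionVars false
universe u
open CategoryTheory CategoryTheory.Limits AlgebraicGeometry
open scoped ZeroObject

namespace K790.KSch

open K790.KS Groth.Agent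

variable (k : Type u) [Field k] {X : Scheme.{u}} (p : X ⟶ Spec (CommRingCat.of k)) [IsProper p]

include p

/-- The structure of a `k`-scheme. -/
abbrev over {X : Scheme.{u}} (p : X ⟶ Spec (CommRingCat.of k)) : X.Over (Spec (CommRingCat.of k)) := ⟨p⟩

theorem finite_hom (M N : X.Modules) (hM : Coh.IsCoh M) (hN : Coh.IsCoh N) :
    letI := over k p
    letI := CurvesC.LinMod.linearModules k X
    Module.Finite k (M ⟶ N) := by
  letI := over k p
  letI := CurvesC.LinMod.linearModules k X
  have : IsProper (X ↘ Spec (CommRingCat.of k)) := inferInstanceAs (IsProper p)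
  exact K792.HomFin.finite_hom k M N hM hN

/-- A summand of a coherent module which is indecomposable has local endomorphism ring. -/
theorem localEnd_of_summand {F A : X.Modules} (hF : Coh.IsCoh F) (i : A ⟶ F) (q : F ⟶ A)
    (h : i ≫ q = 𝟙 A) (hA : Indec A) : LocalEnd A := by
  letI := over k p
  letI := CurvesC.LinMod.linearModules k X
  have := finite_hom k p F F hF hF
  have : Module.Finite k (A ⟶ A) := finite_of_summand k i q h i q h
  exact localEnd_of_indec k hA

theorem localEnd {A : X.Modules} (hF : Coh.IsCoh A) (hA : Indec A) : LocalEnd A :=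
  localEnd_of_summand k p hF (𝟙 _) (𝟙 _) (by simp) hA

theorem exists_sumL (F : X.Modules) (hF : Coh.IsCoh F) :
    ∃ l : List X.Modules, (∀ a ∈ l, LocalEnd a) ∧ Nonempty (F ≅ sumL l) := by
  letI := over k p
  letI := CurvesC.LinMod.linearModules k X
  have := finite_hom k p F F hF hF
  exact KS.exists_sumL k F

theorem exists_decomp (F : X.Modules) (hF : Coh.IsCoh F) :
    ∃ (n : ℕ) (Fs : Fin n → X.Modules), (∀ i, Indec (Fs i)) ∧ Nonempty (F ≅ ∐ Fs) := by
  obtain ⟨l, hl, ⟨e⟩⟩ := exists_sumL k p F hF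
  refine ⟨l.length, l.get, fun i => indec_of_localEnd (hl _ (l.get_mem i)), ?_⟩
  obtain ⟨e'⟩ := nonempty_sigma_iso l.get
  rw [List.ofFn_get] at e'
  exact ⟨e ≪≫ e'.symm⟩

/-- members of a decomposition of a coherent module have local endomorphism rings -/
theorem localEnd_of_iso_sigma {F : X.Modules} (hF : Coh.IsCoh F) {n : ℕ} {Fs : Fin n → X.Modules}
    (e : F ≅ ∐ Fs) (hFs : ∀ i, Indec (Fs i)) (i : Fin n) : LocalEnd (Fs i) := by
  classical
  refine localEnd_of_summand k p hF (Sigma.ι Fs i ≫ e.inv)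
    (e.hom ≫ Sigma.desc (fun j => if h : j = i then eqToHom (by rw [h]) else 0)) ?_ (hFs i)
  simp

theorem exists_equiv {F : X.Modules} (hF : Coh.IsCoh F) {n m : ℕ} {Fs : Fin n → X.Modules}
    {Gs : Fin m → X.Modules} (hFs : ∀ i, Indec (Fs i)) (hGs : ∀ i, Indec (Gs i))
    (e : F ≅ ∐ Fs) (e' : F ≅ ∐ Gs) : ∃ σ : Fin n ≃ Fin m, ∀ i, Nonempty (Fs i ≅ Gs (σ i)) :=
  exists_equiv_of_iso (localEnd_of_iso_sigma k p hF e hFs) (localEnd_of_iso_sigma k p hF e' hGs)
    (e.symm ≪≫ e')

end K790.KSch
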