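import Groth.Agent.ASBun.K792.HomBC

/-!
# `π_* π^* N` for the base change along a finite free algebra

`X` over `Spec A`, `X'` over `Spec B`, `sq : IsPullback π (X' ↘ Spec B) (X ↘ Spec A) (Spec A → B)`, `b` a finite basis
of `B` over `A`: `π_* π^* N ≅ N^ι` for `N` quasi-coherent.
-/

set_option autoImplicit false
set_option backward.isDefEq.respectTransparency false
universe u v w
open CategoryTheory CategoryTheory.Limits AlgebraicGeometry Opposite TopologicalSpace

namespace K790.PushPull

open Groth.Agent K792.SecBC K792.HomBC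

section abstract

theorem nonempty_iso_sigma {D : Type*} [Category D] [Preadditive D] {ι : Type*} [Fintype ι]
    {E : D} (L : ι → D) [HasCoproduct L] (i : ∀ a, L a ⟶ E) (p : ∀ a, E ⟶ L a)
    (h1 : ∀ a, i a ≫ p a = 𝟙 _) (h2 : ∀ a b, a ≠ b → i a ≫ p b = 0) (h3 : ∑ a, p a ≫ i a = 𝟙 E) :
    Nonempty (E ≅ ∐ L) := by
  classical
  refine ⟨{ hom := ∑ a, p a ≫ Sigma.ι L a, inv := Sigma.desc i, hom_inv_id := ?_, inv_hom_id := ?_ }⟩
  · rw [Preadditive.sum_comp, ← h3]
    refine Finset.sum_congr rfl fun a _ => ?_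
    simp
  · apply Sigma.hom_ext
    intro a
    rw [colimit.ι_desc_assoc, Preadditive.comp_sum, Finset.sum_eq_single a]
    · simp only [Cofan.mk_ι_app, Category.comp_id]
      rw [← Category.assoc, h1]
      exact Category.id_comp _
    · intro b _ hb
      simp only [Cofan.mk_ι_app]
      rw [← Category.assoc, h2 a b (Ne.symm hb), zero_comp]
    · intro h; exact absurd (Finset.mem_univ a) h

end abstract

variable {A B : Type u} [CommRing A] [CommRing B] [Algebra A B] {X X' : Scheme.{u}}
  [X.Over (Spec (CommRingCat.of A))] [X'.Over (Spec (CommRingCat.of B))] (π : X' ⟶ X)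
  (sq : IsPullback π (X' ↘ Spec (CommRingCat.of B)) (X ↘ Spec (CommRingCat.of A))
    (Spec.map (CommRingCat.ofHom (algebraMap A B))))
  {ι : Type v} (b : Module.Basis ι A B) (N : X.Modules) (hN : Coh.IsQCoh N)

attribute [local instance] CurvesC.LinMod.linearModules

/-- The inclusion `N ⟶ π_* π^* N` attached to an element of `B`. -/
noncomputable def inc (c : B) : N ⟶ (Scheme.Modules.pushforward π).obj ((Scheme.Modules.pullback π).obj N) :=
  (Scheme.Modules.pullbackPushforwardAdjunction π).unit.app N ≫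
    (Scheme.Modules.pushforward π).map (c • 𝟙 ((Scheme.Modules.pullback π).obj N))

theorem inc_app (c : B) (U : X.Opens) (x : Γ(N, U)) :
    (inc π N c).app U x = (sc B X' (π ⁻¹ᵁ U) c • ps π N U x :
      Γ((Scheme.Modules.pullback π).obj N, π ⁻¹ᵁ U)) := by
  rw [ps_eq]
  rfl

include hN sq in
theorem exists_prj (i : ι) : ∃ φ : (Scheme.Modules.pushforward π).obj ((Scheme.Modules.pullback π).obj N) ⟶ N,
    ∀ (U : X.Opens) (hU : IsAffineOpen U) (t : Γ((Scheme.Modules.pullback π).obj N, π ⁻¹ᵁ U)),
      φ.app U t = cU π sq b N hN hU i t := by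
  obtain ⟨φ, hφ⟩ := CohqA.BasisHom.exists_hom_of_basis
    (M := (Scheme.Modules.pushforward π).obj ((Scheme.Modules.pullback π).obj N)) (N := N)
    (fun U : X.affineOpens => (U : X.Opens))
    (by rw [Subtype.range_coe_subtype]; exact X.isBasis_affineOpens)
    (fun U => cU π sq b N hN U.2 i)
    (fun U V h x => cU_res π sq b N hN V.2 U.2 h i x)
    (fun U r x => cU_smul π sq b N hN U.2 r i x)
  exact ⟨φ, fun U hU t => hφ ⟨U, hU⟩ t⟩

include hN sq b in
theorem nonempty_push_pull_iso [Fintype ι] :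
    Nonempty ((Scheme.Modules.pushforward π).obj ((Scheme.Modules.pullback π).obj N) ≅ ∐ fun _ : ι => N) := by
  classical
  choose p hp using exists_prj π sq b N hN
  have hB : Opens.IsBasis (Set.range (fun U : X.affineOpens => (U : X.Opens))) := by
    rw [Subtype.range_coe_subtype]; exact X.isBasis_affineOpens
  have hcomp : ∀ (i j : ι) (U : X.Opens) (hU : IsAffineOpen U) (x : Γ(N, U)),
      (inc π N (b i) ≫ p j).app U x = if i = j then x else 0 := by
    intro i j U hU x
    change (p j).app U ((inc π N (b i)).app U x) = _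
    rw [hp j U hU, inc_app, cU_smul_ps]
  refine nonempty_iso_sigma (fun _ : ι => N) (fun i => inc π N (b i)) p (fun i => ?_) (fun i j hij => ?_) ?_
  · refine CohqA.BasisHom.hom_ext_of_basis (fun U : X.affineOpens => (U : X.Opens)) hB fun U x => ?_
    rw [hcomp i i U.1 U.2, if_pos rfl]
    rfl
  · refine CohqA.BasisHom.hom_ext_of_basis (fun U : X.affineOpens => (U : X.Opens)) hB fun U x => ?_
    rw [hcomp i j U.1 U.2, if_neg hij]
    rfl
  · refine CohqA.BasisHom.hom_ext_of_basis (fun U : X.affineOpens => (U : X.Opens)) hB fun U t => ?_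
    rw [sum_app]
    obtain ⟨n, ht, hn⟩ := exists_eq_eU π sq b N hN U.2 t
    have h1 : ∀ i, (p i ≫ inc π N (b i)).app U.1 t = (sc B X' (π ⁻¹ᵁ U.1) (b i) • ps π N U.1 (n i) :
      Γ((Scheme.Modules.pullback π).obj N, π ⁻¹ᵁ U.1)) := by
      intro i
      change (inc π N (b i)).app U.1 ((p i).app U.1 t) = _
      rw [hp i U.1 U.2, hn, inc_app]
    rw [Finset.sum_congr rfl fun i _ => h1 i]
    change _ = t
    rw [ht]
    change _ = n.sum fun i x => sc B X' (π ⁻¹ᵁ U.1) (b i) • ps π N U.1 x
    rw [Finsupp.sum_fintype]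
    intro i
    rw [map_zero, smul_zero]

end K790.PushPull
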