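import Groth.Agent.ASBun.K790.Level
import Groth.Agent.ASBun.K790.PushPull
import Groth.Agent.ASBun.K790.FiniteLevel
import Groth.Agent.ASBun.K790.Isotyp
import Groth.Agent.CohqA.AffineBaseChange
import Groth.Agent.CohqA.AffPush
import Groth.Agent.Desc.FinLocFreeSections

/-!
# The push forward of a module on `X_L` to `X`, after base change to `K`

* `nonempty_trace_iso`: if `b^* W' ≅ a^* W` on `X_{K ⊗ L}` then `(π_L)_* W'` becomes `W^{[L : k]}` over `K`;
* `exists_indec_of_trace`: then there is an indecomposable `M` of type `W`.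
-/

set_option autoImplicit false
set_option backward.isDefEq.respectTransparency false
universe u
open CategoryTheory CategoryTheory.Limits AlgebraicGeometry Opposite TopologicalSpace
open scoped TensorProduct

namespace K790.Trace

open W4c1astiltbs12 W4bk4gw11416 K790.Level K790.KS K790.KSch Groth.Agent

variable {k : Type u} [Field k] {X : Scheme.{u}} (p : X ⟶ Spec (CommRingCat.of k))
  (K : Type u) [Field K] [Algebra k K]

theorem nonempty_trace_iso (L : Type u) [CommRing L] [Algebra k L] [Module.Finite k L]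
    (W : (baseChange p K).Modules) (hW : Coh.IsQCoh W) (W' : (baseChange p L).Modules) (hW' : Coh.IsQCoh W')
    (e : (Scheme.Modules.pullback (bcMap p (Algebra.TensorProduct.includeRight : L →ₐ[k] K ⊗[k] L))).obj W' ≅
      (Scheme.Modules.pullback (bcMap p (Algebra.TensorProduct.includeLeft : K →ₐ[k] K ⊗[k] L))).obj W) :
    Nonempty (bcMod p K ((Scheme.Modules.pushforward (proj p L)).obj W') ≅ pow W (Module.finrank k L)) := by
  have i1 := FiniteLevel.isAffineHom_proj p L
  have : W'.IsQuasicoherent := hW'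
  obtain ⟨e1⟩ := CohqA.AffineBaseChange.nonempty_iso (isPullback_tensor (L := K) (L' := L) p) W'
  letI o1 := over K (baseChangeTo p K)
  letI o2 : (baseChange p (K ⊗[k] L)).Over (Spec (CommRingCat.of (K ⊗[k] L))) := ⟨baseChangeTo p (K ⊗[k] L)⟩
  have sq : IsPullback (bcMap p (Algebra.TensorProduct.includeLeft : K →ₐ[k] K ⊗[k] L))
      ((baseChange p (K ⊗[k] L)) ↘ Spec (CommRingCat.of (K ⊗[k] L))) ((baseChange p K) ↘ Spec (CommRingCat.of K))
      (Spec.map (CommRingCat.ofHom (algebraMap K (K ⊗[k] L)))) :=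
    isPullback_bcMap p (Algebra.TensorProduct.includeLeft : K →ₐ[k] K ⊗[k] L)
  let b : Module.Basis (Fin (Module.finrank k L)) K (K ⊗[k] L) := (Module.finBasis k L).baseChange K
  obtain ⟨e2⟩ := PushPull.nonempty_push_pull_iso (bcMap p (Algebra.TensorProduct.includeLeft : K →ₐ[k] K ⊗[k] L))
    sq b W hW
  exact ⟨e1 ≪≫ (Scheme.Modules.pushforward _).mapIso e ≪≫ e2⟩

theorem quasiCompact_proj : QuasiCompact (proj p K) :=
  have := FiniteLevel.isAffineHom_proj p K
  inferInstance

theorem flat_specMap {L K : Type u} [Field L] [CommRing K] (τ : L →+* K) :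
    Flat (Spec.map (CommRingCat.ofHom τ)) := by
  letI := τ.toAlgebra
  rw [Flat.SpecMap_iff]
  exact (RingHom.flat_algebraMap_iff (R := L) (S := K)).2 inferInstance

theorem surjective_specMap {L K : Type u} [Field L] [CommRing K] [Nontrivial K] (τ : L →+* K) :
    Surjective (Spec.map (CommRingCat.ofHom τ)) := by
  constructor
  intro x
  obtain ⟨y⟩ := (inferInstance : Nonempty (PrimeSpectrum K))
  exact ⟨y, Subsingleton.elim (α := PrimeSpectrum L) _ _⟩

theorem flat_bcMap {L K : Type u} [Field L] [Algebra k L] [CommRing K] [Algebra k K] (τ : L →ₐ[k] K) :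
    Flat (bcMap p τ) :=
  MorphismProperty.of_isPullback (isPullback_bcMap p τ).flip (flat_specMap (τ : L →+* K))

theorem surjective_bcMap {L K : Type u} [Field L] [Algebra k L] [CommRing K] [Nontrivial K] [Algebra k K]
    (τ : L →ₐ[k] K) : Surjective (bcMap p τ) :=
  MorphismProperty.of_isPullback (isPullback_bcMap p τ).flip (surjective_specMap (τ : L →+* K))

theorem flat_proj : Flat (proj p K) :=
  MorphismProperty.of_isPullback (isPullback_proj p).flip (flat_specMap (algebraMap k K))

theorem surjective_proj : Surjective (proj p K) :=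
  MorphismProperty.of_isPullback (isPullback_proj p).flip (surjective_specMap (algebraMap k K))

theorem isFinLocFree_of_bc (M : X.Modules) (hM : Coh.IsQCoh M) (h : FlatMod.IsFinLocFree (bcMod p K M)) :
    FlatMod.IsFinLocFree M := by
  have := quasiCompact_proj p K
  have := flat_proj p K
  have := surjective_proj p K
  exact Desc.FinLocFreeSections.isFinLocFree_of_pullback (proj p K) M hM h

theorem isFinLocFree_of_level {L K : Type u} [Field L] [Algebra k L] [CommRing K] [Nontrivial K] [Algebra k K]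
    (τ : L →ₐ[k] K) (M : (baseChange p L).Modules) (hM : Coh.IsQCoh M)
    (h : FlatMod.IsFinLocFree ((Scheme.Modules.pullback (bcMap p τ)).obj M)) : FlatMod.IsFinLocFree M := by
  have := FiniteLevel.isAffineHom_bcMap p τ
  have := flat_bcMap p τ
  have := surjective_bcMap p τ
  exact Desc.FinLocFreeSections.isFinLocFree_of_pullback (bcMap p τ) M hM h

theorem isQCoh_push (L : Type u) [CommRing L] [Algebra k L] (W' : (baseChange p L).Modules) (hW' : Coh.IsQCoh W') :
    Coh.IsQCoh ((Scheme.Modules.pushforward (proj p L)).obj W') := by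
  have := FiniteLevel.isAffineHom_proj p L
  exact CohqA.AffPush.isQCoh_push (proj p L) W' hW'

theorem isFinLocFree_pow {Y : Scheme.{u}} {W : Y.Modules} (hW : FlatMod.IsFinLocFree W) (n : ℕ) :
    FlatMod.IsFinLocFree (pow W n) := by
  obtain ⟨e⟩ := Isotyp.nonempty_pow_iso W n
  refine Dcoh.FinLocFree.isFinLocFree_of_iso e.symm ?_
  induction n with
  | zero => exact Dcoh.FinLocFree.isFinLocFree_of_isZero (isZero_zero _)
  | succ n ih =>
    obtain ⟨e'⟩ := Isotyp.nonempty_pow_iso W n
    exact Dcoh.FinLocFree.isFinLocFree_biprod hW (ih e')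

/-- A power of `W` is the zero module only for exponent zero, if it comes from an indecomposable. -/
theorem pos_of_iso_pow [IsProper p] {E : X.Modules} (hE : Coh.IsCoh E) (hEi : Indec E)
    {W : (baseChange p K).Modules} {s : ℕ} (e : bcMod p K E ≅ pow W s) : 0 < s := by
  rcases Nat.eq_zero_or_pos s with hs | hs
  · exfalso
    subst hs
    letI := over k p
    letI := over K (baseChangeTo p K)
    letI := CurvesC.LinMod.linearModules k X
    letI := CurvesC.LinMod.linearModules K (baseChange p K)
    have h2 : 𝟙 (bcMod p K E) = 0 := by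
      have h3 : 𝟙 (pow W 0) = 0 := Sigma.hom_ext _ _ (fun i => i.elim0)
      calc 𝟙 (bcMod p K E) = e.hom ≫ 𝟙 _ ≫ e.inv := by simp
        _ = 0 := by rw [h3]; simp
    obtain ⟨f, hf, -⟩ := Ext.exists_isIso_of_id_mem (BC.scalExt k p K) (KSch.localEnd k p hE hEi) hE ∅
      (by
        change 𝟙 (bcMod p K E) ∈ _
        rw [h2]; exact zero_mem _)
    exact hf
  · exact hs

/-- From a module on `X_L` to an indecomposable of type `W`. -/
theorem exists_indec_of_trace [IsProper p] (L : Type u) [Field L] [Algebra k L] [Module.Finite k L]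
    (W : (baseChange p K).Modules) (hW : FlatMod.IsFinLocFree W) (hWi : Indec W)
    (W' : (baseChange p L).Modules) (hW' : Coh.IsQCoh W')
    (e : (Scheme.Modules.pullback (bcMap p (Algebra.TensorProduct.includeRight : L →ₐ[k] K ⊗[k] L))).obj W' ≅
      (Scheme.Modules.pullback (bcMap p (Algebra.TensorProduct.includeLeft : K →ₐ[k] K ⊗[k] L))).obj W) :
    ∃ (M : X.Modules) (r : ℕ), FlatMod.IsFinLocFree M ∧ Indec M ∧ 0 < r ∧ Nonempty (bcMod p K M ≅ pow W r) := by
  have hWc := Isotyp.isCoh_of_isFinLocFree hW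
  obtain ⟨e1⟩ := nonempty_trace_iso p K L W hWc.1 W' hW' e
  set E := (Scheme.Modules.pushforward (proj p L)).obj W' with hE
  have hEf : FlatMod.IsFinLocFree E := isFinLocFree_of_bc p K E (isQCoh_push p L W' hW')
    (Dcoh.FinLocFree.isFinLocFree_of_iso e1.symm (isFinLocFree_pow hW _))
  have hEc := Isotyp.isCoh_of_isFinLocFree hEf
  have hd : 0 < Module.finrank k L := Module.finrank_pos
  have hE0 : ¬ IsZero E := by
    intro h0
    have h1 : IsZero (bcMod p K E) := by
      rw [IsZero.iff_id_eq_zero, ← (Scheme.Modules.pullback (proj p K)).map_id, h0.eq_of_src (𝟙 E) 0,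
        Functor.map_zero]
    have h2 : IsZero (pow W (Module.finrank k L)) := h1.of_iso e1.symm
    apply hWi.1
    rw [IsZero.iff_id_eq_zero]
    have h3 : Sigma.ι (fun _ : Fin (Module.finrank k L) => W) ⟨0, hd⟩ ≫ Sigma.desc (fun _ => 𝟙 W) = 𝟙 W := by simp
    rw [← h3, h2.eq_of_tgt (Sigma.ι (fun _ : Fin (Module.finrank k L) => W) ⟨0, hd⟩) 0, zero_comp]
  obtain ⟨G, n, hG, -, ⟨i, q, hiq⟩, s, ⟨es⟩⟩ := Isotyp.exists_iso_pow k p K E hEc hE0 W hWc hWi _ e1
  have hGf := Dcoh.Spread.isFinLocFree_of_retract i q hiq hEf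
  exact ⟨G, s, hGf, hG, pos_of_iso_pow p K (Isotyp.isCoh_of_isFinLocFree hGf) hG es, ⟨es⟩⟩

end K790.Trace
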