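import Groth.Agent.ASBun.K790.Isotyp
import Groth.Agent.ASBun.K790.Trace
import Groth.Agent.ASBun.K792.EndLine

/-!
# Invertible modules on connected schemes are indecomposable

* `idem_eq`: idempotent functions on a connected scheme;
* `indec_of_isInvertible`;
* `nonempty_iso_of_retract`: `M_1 ≅ M` when `(M_1)_K ≅ L^r` and `L` is a summand of `M_K`.
-/

set_option autoImplicit false
universe v w u
open CategoryTheory CategoryTheory.Limits AlgebraicGeometry

namespace K790.Line

open K790.KS K790.KSch K790.Ext K790.BC Groth.Agent W4c1astiltbs12 W4bk4gw11416 FormalB.ModPow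
  Fdesc.LocGen Picfga.LineHom

theorem isUnit_of_basicOpen_eq_top {Y : Scheme.{u}} (c : Γ(Y, ⊤)) (h : Y.basicOpen c = ⊤) :
    IsUnit c := by
  have h1 := Y.toRingedSpace.isUnit_res_basicOpen c
  have h2 : ∀ (V : Y.Opens) (hV : V ≤ ⊤) (e : V = ⊤),
      IsUnit (Y.presheaf.map (homOfLE hV).op c) → IsUnit c := by
    rintro V hV rfl h
    have : (homOfLE hV).op = 𝟙 (Opposite.op (⊤ : Y.Opens)) := rfl
    rw [this, Y.presheaf.map_id] at h
    exact h
  exact h2 _ _ h h1

theorem idem_eq {X : Scheme.{u}} [ConnectedSpace X] (r : Γ(X, ⊤)) (h : r * r = r) : r = 0 ∨ r = 1 := by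
  have h0 : r * (1 - r) = 0 := by rw [mul_sub, mul_one, h, sub_self]
  have h1 : X.basicOpen r ⊓ X.basicOpen (1 - r) = ⊥ := by
    rw [← Scheme.basicOpen_mul, h0, Scheme.basicOpen_zero]
  have h2 : X.basicOpen r ⊔ X.basicOpen (1 - r) = ⊤ := by
    rw [eq_top_iff]
    intro x _
    have h3 : x ∈ X.basicOpen (r + (1 - r)) := by
      rw [add_sub_cancel, Scheme.basicOpen_of_isUnit _ isUnit_one]
      trivial
    exact X.basicOpen_add_le _ _ h3
  have hc : IsClopen (X.basicOpen r : Set X) := by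
    refine ⟨⟨?_⟩, (X.basicOpen r).2⟩
    have : (X.basicOpen r : Set X)ᶜ = (X.basicOpen (1 - r) : Set X) := by
      ext x
      constructor
      · intro hx
        have hx' : x ∈ X.basicOpen r ⊔ X.basicOpen (1 - r) := by rw [h2]; trivial
        exact hx'.resolve_left hx
      · intro hx hx'
        have : x ∈ X.basicOpen r ⊓ X.basicOpen (1 - r) := ⟨hx', hx⟩
        rw [h1] at this
        exact this
    rw [this]
    exact (X.basicOpen (1 - r)).2
  rcases isClopen_iff.1 hc with h3 | h3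
  · left
    have h4 : X.basicOpen (1 - r) = ⊤ := by
      have : X.basicOpen r = ⊥ := by
        apply TopologicalSpace.Opens.ext
        exact h3
      rwa [this, bot_sup_eq] at h2
    have h5 := isUnit_of_basicOpen_eq_top _ h4
    exact (h5.mul_left_eq_zero).1 h0
  · right
    have h4 : X.basicOpen r = ⊤ := by
      apply TopologicalSpace.Opens.ext
      exact h3
    have h5 := isUnit_of_basicOpen_eq_top _ h4
    exact h5.mul_left_cancel (by rw [h, mul_one])

theorem smulModΓ_injective {X : Scheme.{u}} {L : X.Modules} (hL : PicF.IsInvertible L) {r s : Γ(X, ⊤)}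
    (h : Formal.smulModΓ L r = Formal.smulModΓ L s) : r = s := by
  rw [isInvertible_iff] at hL
  refine TopCat.Sheaf.eq_of_locally_eq' X.sheaf (fun x => (hL x).choose) ⊤ (fun x => homOfLE le_top) ?_ r s ?_
  · intro x _
    exact TopologicalSpace.Opens.mem_iSup.2 ⟨x, (hL x).choose_spec.choose_spec.1⟩
  · intro x
    have he := (hL x).choose_spec.choose_spec.2
    apply he.ext
    have := congrArg (fun φ : L ⟶ L => φ.app _ (hL x).choose_spec.choose) h
    exact this

/-- Invertible modules on a connected scheme are indecomposable. -/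
theorem indec_of_isInvertible {X : Scheme.{u}} [ConnectedSpace X] {L : X.Modules}
    (hL : PicF.IsInvertible L) : Indec L := by
  refine ⟨K792.EndLine.not_isZero hL, fun A B ⟨e⟩ => ?_⟩
  let φ : L ⟶ L := e.hom ≫ biprod.fst ≫ biprod.inl ≫ e.inv
  have hφ : φ ≫ φ = φ := by simp [φ]
  obtain ⟨r, hr⟩ := K792.EndLine.exists_eq_smul hL φ
  have h1 : r * r = r := by
    apply smulModΓ_injective hL
    refine (smulModΓ_mul L r r).trans ?_
    have hr' : Formal.smulModΓ L r = φ := hr.symm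
    exact (congrArg₂ (· ≫ ·) hr' hr').trans (hφ.trans hr)
  rcases idem_eq r h1 with h2 | h2
  · left
    have hr := hr.trans ((congrArg _ h2).trans (smulModΓ_zero L))
    rw [IsZero.iff_id_eq_zero]
    calc 𝟙 A = biprod.inl ≫ e.inv ≫ φ ≫ e.hom ≫ biprod.fst := by simp [φ]
      _ = 0 := by rw [hr]; simp
  · right
    have hr := hr.trans ((congrArg _ h2).trans (smulModΓ_one L))
    rw [IsZero.iff_id_eq_zero]
    calc 𝟙 B = biprod.inr ≫ e.inv ≫ 𝟙 L ≫ e.hom ≫ biprod.snd := by simp
      _ = 0 := by rw [← hr]; simp [φ]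

/-- Maps through a retract. -/
theorem id_mem_of_retract {D : Type*} [Category D] [Preadditive D] [HasFiniteCoproducts D] {T W A : D} {r : ℕ}
    (e : T ≅ ∐ fun _ : Fin r => W) (i : W ⟶ A) (q : A ⟶ W) (h : i ≫ q = 𝟙 W) :
    𝟙 T ∈ AddSubgroup.closure {f : T ⟶ T | ∃ (α : T ⟶ A) (β : A ⟶ T), f = α ≫ β} := by
  refine AddSubgroup.closure_mono ?_ (id_mem_of_pow e)
  rintro f ⟨α, β, rfl⟩
  exact ⟨α ≫ i, q ≫ β, by rw [Category.assoc, reassoc_of% h]⟩

section

variable {k : Type u} [Field k] {X : Scheme.{u}} (p : X ⟶ Spec (CommRingCat.of k)) [IsProper p]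
  (K : Type u) [Field K] [Algebra k K]

/-- `M_1 ≅ M` when `(M_1)_K ≅ W^r` and `W` is a summand of `M_K`. -/
theorem nonempty_iso_of_retract (M₁ M : X.Modules) (hM₁ : Coh.IsCoh M₁) (hM : Coh.IsCoh M)
    (hM₁i : Indec M₁) (hMi : Indec M) (W : (baseChange p K).Modules) (r : ℕ)
    (e : bcMod p K M₁ ≅ pow W r) (i : W ⟶ bcMod p K M) (q : bcMod p K M ⟶ W) (h : i ≫ q = 𝟙 W) :
    Nonempty (M₁ ≅ M) :=
  nonempty_iso_of_id_mem k p K M₁ M hM₁ hM hM₁i hMi (id_mem_of_retract e i q h)

/-- If `M_K` is a sum of `W_i`s and the indecomposable `M_1` has `(M_1)_K ≅ W_i^r` for some `i`, then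
`M ≅ M_1`. -/
theorem nonempty_iso_of_sigma (M₁ M : X.Modules) (hM₁ : Coh.IsCoh M₁) (hM : Coh.IsCoh M)
    (hM₁i : Indec M₁) (hMi : Indec M) {n : ℕ} (Ws : Fin n → (baseChange p K).Modules) (r : ℕ) (i : Fin n)
    (e : bcMod p K M₁ ≅ pow (Ws i) r) (e' : bcMod p K M ≅ ∐ Ws) : Nonempty (M₁ ≅ M) := by
  classical
  refine nonempty_iso_of_retract p K M₁ M hM₁ hM hM₁i hMi (Ws i) r e (Sigma.ι Ws i ≫ e'.inv)
    (e'.hom ≫ Sigma.desc (fun j => if h : j = i then eqToHom (by rw [h]) else 0)) ?_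
  simp

/-- An indecomposable module does not have zero base change. -/
theorem pos_of_iso_sigma {E : X.Modules} (hE : Coh.IsCoh E) (hEi : Indec E) {n : ℕ}
    {Ws : Fin n → (baseChange p K).Modules} (e : bcMod p K E ≅ ∐ Ws) : 0 < n := by
  rcases Nat.eq_zero_or_pos n with hs | hs
  · subst hs
    have e1 : (∐ Ws) ≅ pow (bcMod p K E) 0 := by
      have : Ws = fun _ => bcMod p K E := funext fun i => i.elim0
      rw [this]
    exact Trace.pos_of_iso_pow p K hE hEi (e ≪≫ e1)
  · exact hs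

end

end K790.Line
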