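import Groth.Agent.S10960
import Groth.Agent.S3581
import Groth.Agent.S2329
import Groth.Agent.Sga5.AmpleFib
import Groth.Agent.ASBun.K791.Tens
import Groth.Agent.ASBun.K790.Glue
import Groth.Agent.ASBun.K790.Level

/-!
# Automorphisms of projective space fix `O(j)`

* `nonempty_iso_of_point`: invertible modules on a one-point scheme are isomorphic;
* `nonempty_pull_twist`: `τ^* O(j) ≅ O(j)` for an automorphism `τ` (of schemes) of `P^n_K`;
* `nonempty_pull_splitting`: the same for the modules `O_e(j)` of a splitting;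
* `exists_iso_twist`: every invertible module on `X_K` is some `O_e(j)`.
-/

set_option autoImplicit false
universe u
open CategoryTheory CategoryTheory.Limits AlgebraicGeometry

namespace K790.Pn

open Groth.Agent Groth.Agent.ASBun.K791.Tens

/-- Invertible modules on a one-point scheme are isomorphic. -/
theorem nonempty_iso_of_point {Y : Scheme.{u}} [Subsingleton Y] {L L' : Y.Modules}
    (hL : PicF.IsInvertible L) (hL' : PicF.IsInvertible L') : Nonempty (L ≅ L') := by
  refine Glue.nonempty_iso_of_disjoint' (ι := Y) (W := fun _ => ((⊤ : Y.Opens) : Scheme.{u}))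
    (fun _ => (⊤ : Y.Opens).ι) (fun x => ⟨x, ?_⟩) (fun i i' h => (h (Subsingleton.elim _ _)).elim) (fun x => ?_)
  · rw [Scheme.Opens.opensRange_ι]; trivial
  · have e : Nonempty (L.restrict (⊤ : Y.Opens).ι ≅ L'.restrict (⊤ : Y.Opens).ι) := by
      obtain ⟨U, hxU, ⟨e⟩⟩ := hL x
      obtain ⟨V, hxV, ⟨e'⟩⟩ := hL' x
      have hU : U = ⊤ := by
        rw [eq_top_iff]
        intro y _
        rwa [Subsingleton.elim y x]
      have hV : V = ⊤ := by
        rw [eq_top_iff]
        intro y _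
        rwa [Subsingleton.elim y x]
      subst hU
      subst hV
      exact ⟨e ≪≫ e'.symm⟩
    exact e.some

section Aut

variable {K : Type u} [Field K] {n : ℕ}

local notation "𝒪(" d ")" => Twist.twistProjSpace n K d

/-- The degree map of an automorphism. -/
theorem exists_deg (hn : 1 ≤ n) (τ : CohB1.ProjSpace n K ⟶ CohB1.ProjSpace n K) [IsIso τ] :
    ∃ m : ℤ → ℤ, (∀ d, Nonempty ((Scheme.Modules.pullback τ).obj (Twist.twistProjSpace n K d) ≅
      Twist.twistProjSpace n K (m d))) ∧ (∀ a b, m (a + b) = m a + m b) ∧ 0 < m 1 := by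
  have hinv (d : ℤ) : PicF.IsInvertible ((Scheme.Modules.pullback τ).obj (Twist.twistProjSpace n K d)) :=
    Fdesc.LocGen.isInvertible_pullback τ (Ega3B.ProjTwist.isInvertible_twistProjSpace n K d)
  choose m hm using fun d => S1697.result K n _ (hinv d)
  refine ⟨m, hm, fun a b => ?_, ?_⟩
  · obtain ⟨e1⟩ := twistProj_mul n K a b
    obtain ⟨e2⟩ := twistProj_mul n K (m a) (m b)
    obtain ⟨e3⟩ := hm (a + b)
    obtain ⟨e4⟩ := hm a
    obtain ⟨e5⟩ := hm b
    exact S10960.eq_of_iso K n hn (e3.symm ≪≫ (Scheme.Modules.pullback τ).mapIso e1.symm ≪≫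
      pullTens τ _ _ ≪≫ tensMap e4 e5 ≪≫ e2)
  · obtain ⟨e⟩ := hm 1
    rw [← S10962.result K n hn (m 1)]
    exact S2329.isAmple_of_iso e (Sga5.AmpleFib.isAmple_pullback τ ((S10962.result K n hn 1).2 one_pos))

/-- Automorphisms of projective space fix the twisting sheaves. -/
theorem nonempty_pull_twist (τ : CohB1.ProjSpace n K ⟶ CohB1.ProjSpace n K) [IsIso τ] (d : ℤ) :
    Nonempty ((Scheme.Modules.pullback τ).obj (Twist.twistProjSpace n K d) ≅
      Twist.twistProjSpace n K d) := by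
  rcases Nat.eq_zero_or_pos n with hn | hn
  · subst hn
    have : Subsingleton (CohB1.ProjSpace 0 K) := by
      have := S3581.result K
      exact (CohB1.ProjSpace.toSpec 0 K).homeomorph.injective.subsingleton
    exact nonempty_iso_of_point
      (Fdesc.LocGen.isInvertible_pullback τ (Ega3B.ProjTwist.isInvertible_twistProjSpace 0 K d))
      (Ega3B.ProjTwist.isInvertible_twistProjSpace 0 K d)
  · obtain ⟨m, hm, hadd, hpos⟩ := exists_deg hn τ
    obtain ⟨m', hm', hadd', hpos'⟩ := exists_deg hn (inv τ)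
    have hlin (d : ℤ) : m d = d * m 1 := by
      let φ : ℤ →+ ℤ := AddMonoidHom.mk' m hadd
      have := map_zsmul φ d 1
      rw [smul_eq_mul, mul_one, smul_eq_mul] at this
      exact this
    have hlin' (d : ℤ) : m' d = d * m' 1 := by
      let φ : ℤ →+ ℤ := AddMonoidHom.mk' m' hadd'
      have := map_zsmul φ d 1
      rw [smul_eq_mul, mul_one, smul_eq_mul] at this
      exact this
    have h1 : m' (m 1) = 1 := by
      obtain ⟨e1⟩ := hm' (m 1)
      obtain ⟨e2⟩ := hm 1
      obtain ⟨e3⟩ := Level.pull_comp (inv τ) τ (Twist.twistProjSpace n K 1)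
      obtain ⟨e4⟩ := Level.pull_congr (IsIso.inv_hom_id τ) (Twist.twistProjSpace n K 1)
      obtain ⟨e5⟩ := Level.pull_id (Twist.twistProjSpace n K 1)
      exact S10960.eq_of_iso K n hn (e1.symm ≪≫ (Scheme.Modules.pullback _).mapIso e2.symm ≪≫ e3 ≪≫ e4 ≪≫ e5)
    have h2 : m 1 = 1 := by
      rw [hlin'] at h1
      exact Int.eq_one_of_mul_eq_one_right hpos.le h1
    have h3 := hm d
    rw [hlin, h2, mul_one] at h3
    exact h3

end Aut

section Splitting

variable {k : Type u} [Field k] {X : Scheme.{u}} {p : X ⟶ Spec (CommRingCat.of k)}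
  {K : Type u} [Field K] [Algebra k K] {n : ℕ} (e : BrSev.Splitting p K n)

theorem isInvertible_twist (j : ℤ) : PicF.IsInvertible (e.twist j) :=
  Fdesc.LocGen.isInvertible_pullback e.iso.hom (Ega3B.ProjTwist.isInvertible_twistProjSpace n K j)

/-- Automorphisms of `X_K` fix `O_e(j)`. -/
theorem nonempty_pull_splitting (τ : BrSev.bc p K ⟶ BrSev.bc p K) [IsIso τ] (j : ℤ) :
    Nonempty ((Scheme.Modules.pullback τ).obj (e.twist j) ≅ e.twist j) := by
  obtain ⟨e1⟩ := nonempty_pull_twist (e.iso.inv ≫ τ ≫ e.iso.hom) j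
  obtain ⟨e2⟩ := Level.pull_comp τ e.iso.hom (Twist.twistProjSpace n K j)
  obtain ⟨e3⟩ := Level.pull_congr (show τ ≫ e.iso.hom = e.iso.hom ≫ e.iso.inv ≫ τ ≫ e.iso.hom by simp)
    (Twist.twistProjSpace n K j)
  obtain ⟨e4⟩ := Level.pull_comp e.iso.hom (e.iso.inv ≫ τ ≫ e.iso.hom) (Twist.twistProjSpace n K j)
  exact ⟨e2 ≪≫ e3 ≪≫ e4.symm ≪≫ (Scheme.Modules.pullback e.iso.hom).mapIso e1⟩

/-- Every invertible module on `X_K` is some `O_e(j)`. -/
theorem exists_iso_twist (L : (BrSev.bc p K).Modules) (hL : PicF.IsInvertible L) :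
    ∃ j : ℤ, Nonempty (L ≅ e.twist j) := by
  obtain ⟨j, ⟨e1⟩⟩ := S1697.result K n _ (Fdesc.LocGen.isInvertible_pullback e.iso.inv hL)
  obtain ⟨e2⟩ := Level.pull_comp e.iso.hom e.iso.inv L
  obtain ⟨e3⟩ := Level.pull_congr e.iso.hom_inv_id L
  obtain ⟨e4⟩ := Level.pull_id L
  exact ⟨j, ⟨e4.symm ≪≫ e3.symm ≪≫ e2.symm ≪≫ (Scheme.Modules.pullback e.iso.hom).mapIso e1⟩⟩

end Splitting

end K790.Pn
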