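import Mathlib.FieldTheory.IsSepClosed
import Mathlib.FieldTheory.PrimitiveElement
import Mathlib.RingTheory.TensorProduct.Basic
import Mathlib.LinearAlgebra.Dimension.Constructions
import Mathlib.LinearAlgebra.Dual.Lemmas
import Mathlib.FieldTheory.Normal.Basic
import Mathlib.FieldTheory.Fixed

/-!
# `K ⊗ L` for `L/k` finite separable and `K` separably closed

* `chi σ : K ⊗ L →ₐ[k] K`;
* `bijective_chi`: together they give `K ⊗ L = K^{Hom(L, K)}`;
* `exists_lift`: embeddings `L → K` extend to automorphisms.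
-/

set_option autoImplicit false
open scoped TensorProduct

namespace K790.SepAlg

variable {k : Type*} [Field k] {K : Type*} [Field K] [Algebra k K] {L : Type*} [Field L] [Algebra k L]

/-- The `K`-algebra map `K ⊗ L → K` attached to an embedding. -/
noncomputable def chi (σ : L →ₐ[k] K) : K ⊗[k] L →ₐ[k] K :=
  Algebra.TensorProduct.lift (AlgHom.id k K) σ (fun _ _ => Commute.all _ _)

theorem chi_tmul (σ : L →ₐ[k] K) (c : K) (x : L) : chi σ (c ⊗ₜ x) = c * σ x := by
  simp [chi]

theorem chi_comp_right (σ : L →ₐ[k] K) :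
    (chi σ).comp (Algebra.TensorProduct.includeRight : L →ₐ[k] K ⊗[k] L) = σ := by
  ext x; simp [chi]

theorem chi_comp_left (σ : L →ₐ[k] K) :
    (chi σ).comp (Algebra.TensorProduct.includeLeft : K →ₐ[k] K ⊗[k] L) = AlgHom.id k K := by
  ext x; simp [chi]

/-- All together. -/
noncomputable def chiAll : K ⊗[k] L →ₗ[K] ((L →ₐ[k] K) → K) :=
  LinearMap.pi fun σ =>
    { toFun := chi σ
      map_add' := map_add (chi σ)
      map_smul' := fun c t => by
        induction t using TensorProduct.induction_on with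
        | zero => simp
        | tmul a x => simp [TensorProduct.smul_tmul', chi_tmul, mul_assoc]
        | add a b ha hb => rw [smul_add, map_add, ha, hb, map_add, smul_add] }

theorem chiAll_apply (t : K ⊗[k] L) (σ : L →ₐ[k] K) : chiAll t σ = chi σ t := rfl

variable [FiniteDimensional k L] [Algebra.IsSeparable k L] [IsSepClosed K]

theorem splits_minpoly (x : L) : ((minpoly k x).map (algebraMap k K)).Splits :=
  IsSepClosed.splits_codomain _ (Algebra.IsSeparable.isSeparable k x)

theorem surjective_chiAll : Function.Surjective (chiAll : K ⊗[k] L →ₗ[K] ((L →ₐ[k] K) → K)) := by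
  classical
  rw [← LinearMap.range_eq_top]
  by_contra hne
  obtain ⟨f, hf, hf'⟩ := Submodule.exists_dual_map_eq_bot_of_lt_top (lt_top_iff_ne_top.2 hne) inferInstance
  apply hf
  have h1 : ∀ x : L, ∑ σ : L →ₐ[k] K, f (Pi.single σ 1) * σ x = 0 := by
    intro x
    have h2 : f (chiAll ((1 : K) ⊗ₜ[k] x)) = 0 := by
      have : f (chiAll ((1 : K) ⊗ₜ[k] x)) ∈ (LinearMap.range (chiAll : K ⊗[k] L →ₗ[K] _)).map f :=
        ⟨_, ⟨_, rfl⟩, rfl⟩
      rwa [hf', Submodule.mem_bot] at this
    rw [← h2, LinearMap.pi_apply_eq_sum_univ f]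
    refine Finset.sum_congr rfl fun σ _ => ?_
    rw [chiAll_apply, chi_tmul, one_mul, smul_eq_mul, mul_comm]
    congr 2
    ext τ
    simp [Pi.single_apply, eq_comm]
  have h3 : ∀ σ, f (Pi.single σ 1) = 0 := by
    have hli := linearIndependent_toLinearMap k L K
    rw [Fintype.linearIndependent_iff] at hli
    apply hli
    ext x
    simpa using h1 x
  ext σ
  simpa using h3 σ

theorem bijective_chiAll : Function.Bijective (chiAll : K ⊗[k] L →ₗ[K] ((L →ₐ[k] K) → K)) := by
  classical
  have h : Module.finrank K (K ⊗[k] L) = Module.finrank K ((L →ₐ[k] K) → K) := by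
    rw [Module.finrank_baseChange, Module.finrank_fintype_fun_eq_card,
      AlgHom.card_of_splits k L K splits_minpoly]
  exact ⟨(LinearMap.injective_iff_surjective_of_finrank_eq_finrank h).2 surjective_chiAll,
    surjective_chiAll⟩

/-- The ring isomorphism. -/
noncomputable def chiEquiv : K ⊗[k] L ≃+* ((L →ₐ[k] K) → K) :=
  RingEquiv.ofBijective (Pi.ringHom fun σ => (chi σ : K ⊗[k] L →+* K)) bijective_chiAll

end K790.SepAlg
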