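import Groth.Agent.ASBun.K790.KS
import Mathlib.RingTheory.SimpleRing.Basic

/-!
# A simple local ring is a division ring (noncommutative)
-/

set_option autoImplicit false

namespace K790.SimpleLocal

open K790.KS

variable {R : Type*} [Ring R] [IsLocalRing R]

theorem mul_eq_one_of_local {a b : R} (h : a * b = 1) : b * a = 1 := by
  have h1 : (b * a) * (b * a) = b * a := by
    rw [mul_assoc, ← mul_assoc a, h, one_mul]
  rcases idem_eq_zero_or_one h1 with h2 | h2
  · exfalso
    have h3 : (1 : R) = 0 := by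
      calc (1 : R) = (a * b) * (a * b) := by rw [h, one_mul]
        _ = a * (b * a) * b := by simp only [mul_assoc]
        _ = 0 := by rw [h2, mul_zero, zero_mul]
    exact one_ne_zero h3
  · exact h2

theorem isUnit_of_mul_isUnit_left {x n : R} (h : IsUnit (x * n)) : IsUnit n := by
  obtain ⟨u, hu⟩ := h
  have h1 : (↑u⁻¹ * x) * n = 1 := by rw [mul_assoc, ← hu, Units.inv_mul]
  exact ⟨⟨n, ↑u⁻¹ * x, mul_eq_one_of_local h1, h1⟩, rfl⟩

theorem isUnit_of_mul_isUnit_right {x n : R} (h : IsUnit (n * x)) : IsUnit n := by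
  obtain ⟨u, hu⟩ := h
  have h1 : n * (x * ↑u⁻¹) = 1 := by rw [← mul_assoc, ← hu, Units.mul_inv]
  exact ⟨⟨n, x * ↑u⁻¹, h1, mul_eq_one_of_local h1⟩, rfl⟩

theorem isUnit_of_simple [IsSimpleRing R] {f : R} (hf : f ≠ 0) : IsUnit f := by
  by_contra hn
  let I : TwoSidedIdeal R := TwoSidedIdeal.mk' {x : R | ¬ IsUnit x} not_isUnit_zero
    (fun {x y} hx hy h => by
      obtain ⟨u, hu⟩ := h
      have h2 : x * (↑u⁻¹ : R) + y * (↑u⁻¹ : R) = 1 := by
        rw [← add_mul, ← hu, Units.mul_inv]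
      rcases IsLocalRing.isUnit_or_isUnit_of_add_one h2 with h3 | h3
      · exact hx ((Units.isUnit_mul_units _ _).1 h3)
      · exact hy ((Units.isUnit_mul_units _ _).1 h3))
    (fun {x} hx h => hx (by simpa using h.neg))
    (fun {x y} hy h => hy (isUnit_of_mul_isUnit_left h))
    (fun {x y} hx h => hx (isUnit_of_mul_isUnit_right h))
  have hI : ∀ x, x ∈ I ↔ ¬ IsUnit x := fun x => TwoSidedIdeal.mem_mk' _ _ _ _ _ _ x
  rcases eq_bot_or_eq_top I with h | h
  · have h1 : f ∈ I := (hI f).2 hn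
    rw [h] at h1
    exact hf h1
  · have h1 : (1 : R) ∈ I := by rw [h]; trivial
    exact (hI 1).1 h1 isUnit_one

end K790.SimpleLocal
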