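import Groth.Agent.Ega3B.NearFibre
import Groth.Agent.Flat2H.ThickFibre
import Groth.Agent.S0023
import Groth.Agent.ASBun.K790.Pn
import Groth.Agent.ASBun.K790.FibPt
import Groth.Agent.ASBun.K790.Trace
import Groth.Agent.ASBun.K790.Invar

/-!
# Invertible modules over an Artinian base

* `nonempty_iso_of_fibres`: over an Artinian base, invertible modules on a flat proper scheme with
  `H^1(fibre, O) = 0` are isomorphic when they are on the fibres.
-/

set_option autoImplicit false
universe u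
open CategoryTheory CategoryTheory.Limits AlgebraicGeometry
open scoped TensorProduct

namespace K790.Thick

open Groth.Agent W4c1astiltbs12 W4bk4gw11416 K790.Level K790.KS K790.KSch K790.Trace

/-- Restricting isomorphisms. -/
theorem nonempty_pull_of_le {Y : Scheme.{u}} {L M : Y.Modules} {U V : Y.Opens} (h : V ≤ U)
    (e : Nonempty (L.restrict U.ι ≅ M.restrict U.ι)) :
    Nonempty ((Scheme.Modules.pullback V.ι).obj L ≅ (Scheme.Modules.pullback V.ι).obj M) := by
  obtain ⟨e⟩ := e
  have h1 : Y.homOfLE h ≫ U.ι = V.ι := Y.homOfLE_ι h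
  have key (N : Y.Modules) : Nonempty ((Scheme.Modules.pullback V.ι).obj N ≅
      (Scheme.Modules.pullback (Y.homOfLE h)).obj (N.restrict U.ι)) := by
    obtain ⟨a⟩ := pull_congr h1 N
    obtain ⟨b⟩ := pull_comp (Y.homOfLE h) U.ι N
    exact ⟨a.symm ≪≫ b.symm ≪≫ (Scheme.Modules.pullback _).mapIso
      ((Scheme.Modules.restrictFunctorIsoPullback U.ι).app N).symm⟩
  obtain ⟨a⟩ := key L
  obtain ⟨b⟩ := key M
  exact ⟨a ≪≫ (Scheme.Modules.pullback _).mapIso e ≪≫ b.symm⟩

/-- Invertible modules over an Artinian base. -/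
theorem nonempty_iso_of_fibres {B : Type u} [CommRing B] [IsArtinianRing B] {Y : Scheme.{u}}
    (f : Y ⟶ Spec (CommRingCat.of B)) [IsProper f] [Flat f] (L M : Y.Modules)
    (hL : PicF.IsInvertible L) (hM : PicF.IsInvertible M)
    (h1 : ∀ y, Subsingleton (Coh.HH (f.fiber y) (Coh.structureModule (f.fiber y)) 1))
    (hy : ∀ y, Nonempty (CohIII.fiberMod f L y ≅ CohIII.fiberMod f M y)) : Nonempty (L ≅ M) := by
  have hd : DiscreteTopology (Spec (CommRingCat.of B)) :=
    inferInstanceAs (DiscreteTopology (PrimeSpectrum B))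
  let V : Spec (CommRingCat.of B) → (Spec (CommRingCat.of B)).Opens := fun y => ⟨{y}, isOpen_discrete _⟩
  refine Glue.nonempty_iso_of_disjoint (ι := Spec (CommRingCat.of B))
    (W := fun y => ((f ⁻¹ᵁ V y : Y.Opens) : Scheme.{u})) (fun y => (f ⁻¹ᵁ V y).ι) (fun x => ⟨f x, ?_⟩)
    (fun y y' h => ?_) (fun y => ?_)
  · rw [Scheme.Opens.opensRange_ι]
    rfl
  · rw [Scheme.Opens.opensRange_ι, Scheme.Opens.opensRange_ι, eq_bot_iff]
    rintro x ⟨hx, hx'⟩
    exact h (hx.symm.trans hx')
  · obtain ⟨U, hyU, e⟩ := Ega3B.NearFibre.invertible_iso_near_fibre f y (h1 y) L M hL hM (hy y)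
    refine nonempty_pull_of_le (U := f ⁻¹ᵁ U) ?_ e
    intro x hx
    have hx' : f x = y := hx
    change f x ∈ U
    rwa [hx']

end K790.Thick
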