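import Groth.Agent.ASBun.K790.Thick
import Groth.Agent.ASBun.K790.Line
import Groth.Agent.Pic13.H602.InvDesc
import Groth.Agent.Sga5.ProjConn

/-!
# Every twisting sheaf is the type of an indecomposable module

* `connectedSpace_bc`, `indec_twist`;
* `exists_indec_twist`.
-/

set_option autoImplicit false
universe u
open CategoryTheory CategoryTheory.Limits AlgebraicGeometry
open scoped TensorProduct

namespace K790.Twist

open Groth.Agent W4c1astiltbs12 W4bk4gw11416 K790.Level K790.KS K790.KSch K790.Trace K790.FibPt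
  Groth.Agent.ASBun.K791.Tens

theorem isInvertible_of_iso {X : Scheme.{u}} {L M : X.Modules} (e : L ≅ M) (hL : PicF.IsInvertible L) :
    PicF.IsInvertible M := fun y => by
  obtain ⟨U, hy, ⟨f⟩⟩ := hL y
  exact ⟨U, hy, ⟨((Scheme.Modules.restrictFunctor U.ι).mapIso e).symm ≪≫ f⟩⟩

theorem isInvertible_structureModule (X : Scheme.{u}) : PicF.IsInvertible (Coh.structureModule X) :=
  fun x => ⟨⊤, trivial, ⟨(Scheme.Modules.restrictFunctorIsoPullback (⊤ : X.Opens).ι).app _ ≪≫ pullUnit _⟩⟩

section Fibre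

variable {k : Type u} [Field k] {X : Scheme.{u}} (p : X ⟶ Spec (CommRingCat.of k))
  {K : Type u} [Field K] [Algebra k K] [IsAlgClosed K] {B : Type u} [CommRing B] [Algebra k B] [Algebra K B]
  [IsScalarTower k K B] [Module.Finite K B]

/-- The fibres of `X_B ⟶ Spec B`. -/
theorem exists_fibre (y : Spec (CommRingCat.of B)) : ∃ (χ : B →ₐ[K] K)
    (t : baseChange p K ⟶ (baseChangeTo p B).fiber y), IsIso t ∧
      t ≫ (baseChangeTo p B).fiberι y = bcMap p (χ.restrictScalars k) := by
  obtain ⟨χ, g, hg, h⟩ := exists_point (K := K) y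
  obtain ⟨t, ht, ht'⟩ := exists_fiber_iso (baseChangeTo p B) y (Spec.map g) h
    (isPullback_bcMap p (χ.restrictScalars k))
  exact ⟨χ, t, ht, ht'⟩

end Fibre

variable {k : Type u} [Field k] {X : Scheme.{u}} {p : X ⟶ Spec (CommRingCat.of k)}
  {K : Type u} [Field K] [Algebra k K] {n : ℕ}

theorem connectedSpace_bc (e : BrSev.Splitting p K n) : ConnectedSpace (BrSev.bc p K) := by
  have := Sga5.ProjConn.connectedSpace_projSpace n K
  exact e.iso.symm.hom.homeomorph.surjective.connectedSpace e.iso.symm.hom.homeomorph.continuous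

theorem indec_twist (e : BrSev.Splitting p K n) (j : ℤ) : Indec (e.twist j) := by
  have := connectedSpace_bc e
  exact Line.indec_of_isInvertible (Pn.isInvertible_twist e j)

theorem subsingleton_HH_of_iso {Z Y : Scheme.{u}} (t : Z ⟶ Y) [IsIso t] (q : ℕ) :
    Subsingleton (Coh.HH Z (Coh.structureModule Z) q) ↔ Subsingleton (Coh.HH Y (Coh.structureModule Y) q) := by
  have h1 := Flat2H.ThickFibre.subsingleton_HH_pullback_iff t (Coh.structureModule Y)
    (Isotyp.isCoh_of_isInvertible (isInvertible_structureModule Y)).1 q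
  rw [← h1]
  constructor
  · intro h
    exact Fga.HShift.subsingleton_of_iso (pullUnit t).symm q h
  · intro h
    exact Fga.HShift.subsingleton_of_iso (pullUnit t) q h

theorem exists_indec_twist [IsProper p] [IsAlgClosure k K] (e : BrSev.Splitting p K n) (j : ℤ) :
    ∃ (W : X.Modules) (r : ℕ), FlatMod.IsFinLocFree W ∧ Indec W ∧ 0 < r ∧ BrSev.IsTwPow e j r W := by
  have : IsAlgClosed K := IsAlgClosure.isAlgClosed k
  have : Algebra.IsAlgebraic k K := IsAlgClosure.isAlgebraic
  have : Normal k K := IsAlgClosure.normal k K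
  have := Invar.isLocallyNoetherian_bc p K
  have : CompactSpace X := by
    have := QuasiCompact.compactSpace_of_compactSpace p
    exact this
  have : QuasiSeparatedSpace X := (quasiSeparated_iff_quasiSeparatedSpace p).1 inferInstance
  have hWv := Pn.isInvertible_twist e j
  have hW := Isotyp.isFinLocFree_of_isInvertible hWv
  have hWc := Isotyp.isCoh_of_isFinLocFree hW
  have hinv : ∀ σ : K ≃ₐ[k] K, Nonempty ((Scheme.Modules.pullback (galAct p K σ)).obj (e.twist j) ≅ e.twist j) := by
    intro σ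
    have : IsIso (galAct p K σ) := by
      rw [galAct_eq]
      refine ⟨bcMap p (σ.symm : K →ₐ[k] K), ?_, ?_⟩
      · rw [← bcMap_comp, ← bcMap_id]
        congr 1
        ext x
        simp
      · rw [← bcMap_comp, ← bcMap_id]
        congr 1
        ext x
        simp
    exact Pn.nonempty_pull_splitting e (galAct p K σ) j
  obtain ⟨L, _, W', hW', e0⟩ := FiniteLevel.exists_level p K (e.twist j) hWc.1 (Invar.isFP_of_isCoh hWc)
  have hW'v : PicF.IsInvertible W' := by
    have := flat_bcMap p L.val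
    have := surjective_bcMap p L.val
    have := FiniteLevel.isAffineHom_bcMap p L.val
    refine Pic13.H602.InvDesc.isInvertible_of_single (bcMap p L.val) W' hW'.1 ?_
    obtain ⟨e0⟩ := e0
    exact isInvertible_of_iso e0.symm hWv
  have hB : Module.Finite K (K ⊗[k] L) := inferInstance
  have hBA : IsArtinianRing (K ⊗[k] L) := IsArtinianRing.of_finite K (K ⊗[k] L)
  have hprop : IsProper (baseChangeTo p (K ⊗[k] L)) :=
    MorphismProperty.of_isPullback (P := @IsProper) (isPullback_proj p) inferInstance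
  have hflat : Flat (baseChangeTo p (K ⊗[k] L)) := by
    have : Flat p := inferInstance
    exact MorphismProperty.of_isPullback (P := @Flat) (isPullback_proj p) inferInstance
  obtain ⟨e1⟩ : Nonempty
      ((Scheme.Modules.pullback (bcMap p (Algebra.TensorProduct.includeRight : L →ₐ[k] K ⊗[k] L))).obj W' ≅
      (Scheme.Modules.pullback (bcMap p (Algebra.TensorProduct.includeLeft : K →ₐ[k] K ⊗[k] L))).obj (e.twist j)) := by
    refine Thick.nonempty_iso_of_fibres (baseChangeTo p (K ⊗[k] L)) _ _
      (Fdesc.LocGen.isInvertible_pullback _ hW'v) (Fdesc.LocGen.isInvertible_pullback _ hWv) (fun y => ?_) (fun y => ?_)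
    · obtain ⟨χ, t, ht, -⟩ := exists_fibre (K := K) p y
      rw [← subsingleton_HH_of_iso t]
      have h1 := (subsingleton_HH_of_iso e.iso.hom 1).2 (S0023.result n K 1 one_pos)
      exact h1
    · obtain ⟨χ, t, ht, ht'⟩ := exists_fibre (K := K) p y
      refine nonempty_iso_of_pull t _ _ ?_
      set χ' : K ⊗[k] L →ₐ[k] K := χ.restrictScalars k with hχ'
      obtain ⟨a0⟩ := pull_comp t ((baseChangeTo p (K ⊗[k] L)).fiberι y)
        ((Scheme.Modules.pullback (bcMap p (Algebra.TensorProduct.includeRight : L →ₐ[k] K ⊗[k] L))).obj W')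
      obtain ⟨a1⟩ := pull_congr ht'
        ((Scheme.Modules.pullback (bcMap p (Algebra.TensorProduct.includeRight : L →ₐ[k] K ⊗[k] L))).obj W')
      obtain ⟨a2⟩ := pull_comp (bcMap p χ')
        (bcMap p (Algebra.TensorProduct.includeRight : L →ₐ[k] K ⊗[k] L)) W'
      obtain ⟨a3⟩ := pull_congr
        (bcMap_comp p (Algebra.TensorProduct.includeRight : L →ₐ[k] K ⊗[k] L) χ').symm W'
      obtain ⟨a4⟩ := Invar.nonempty_pull_chi p K L (e.twist j) W' e0 hinv
        (χ'.comp Algebra.TensorProduct.includeRight)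
      obtain ⟨b0⟩ := pull_comp t ((baseChangeTo p (K ⊗[k] L)).fiberι y)
        ((Scheme.Modules.pullback (bcMap p (Algebra.TensorProduct.includeLeft : K →ₐ[k] K ⊗[k] L))).obj (e.twist j))
      obtain ⟨b1⟩ := pull_congr ht'
        ((Scheme.Modules.pullback (bcMap p (Algebra.TensorProduct.includeLeft : K →ₐ[k] K ⊗[k] L))).obj (e.twist j))
      obtain ⟨b2⟩ := pull_comp (bcMap p χ')
        (bcMap p (Algebra.TensorProduct.includeLeft : K →ₐ[k] K ⊗[k] L)) (e.twist j)
      have h0 : χ'.comp (Algebra.TensorProduct.includeLeft : K →ₐ[k] K ⊗[k] L) = AlgHom.id k K := by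
        ext x
        have := χ.commutes x
        exact this
      obtain ⟨b3⟩ := pull_congr (show bcMap p χ' ≫
        bcMap p (Algebra.TensorProduct.includeLeft : K →ₐ[k] K ⊗[k] L) = 𝟙 _ by
          rw [← bcMap_comp, h0, bcMap_id]) (e.twist j)
      obtain ⟨b4⟩ := pull_id (e.twist j)
      exact ⟨a0 ≪≫ a1 ≪≫ a2 ≪≫ a3 ≪≫ a4 ≪≫ b4.symm ≪≫ b3.symm ≪≫ b2.symm ≪≫ b1.symm ≪≫ b0.symm⟩
  exact exists_indec_of_trace p K L (e.twist j) hW (indec_twist e j) W' hW'.1 e1

end K790.Twist
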